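import Cfsg.Agent.Core.KegelWielandt
import Cfsg.Agent.Core.PCore
import Cfsg.Agent.Fusion.Frobenius
import Mathlib.GroupTheory.PGroup

/-!
Groups in which every proper mixed subgroup of order divisible by `q` has order divisible by `p`:
elementary lemmas.
-/

set_option autoImplicit false

namespace Cfsg.Agent.MixPQ

open Subgroup

universe u

variable {G : Type u} [Group G] {p q : ℕ}

/-- `p` divides the order of every proper subgroup that has order divisible by `q` and is not a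
`q`-group. -/
def Mix (p q : ℕ) (G : Type u) [Group G] : Prop :=
  ∀ H : Subgroup G, H ≠ ⊤ → ¬ IsPGroup q H → q ∣ Nat.card H → p ∣ Nat.card H

/-- `x` is a `p`-element. -/
def PE (p : ℕ) {G : Type u} [Group G] (x : G) : Prop := ∃ k : ℕ, orderOf x = p ^ k

theorem pe_of_mem [Finite G] [Fact p.Prime] {H : Subgroup G} (h : IsPGroup p H) {x : G}
    (hx : x ∈ H) : PE p x := by
  obtain ⟨k, hk⟩ := h ⟨x, hx⟩
  obtain ⟨i, -, hi⟩ := (Nat.dvd_prime_pow (Fact.out : p.Prime)).1
    (orderOf_dvd_of_pow_eq_one (x := x) (n := p ^ k) (congrArg Subtype.val hk))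
  exact ⟨i, hi⟩

theorem pe_conj {x : G} (h : PE p x) (g : G) : PE p (g * x * g⁻¹) := by
  obtain ⟨k, hk⟩ := h
  exact ⟨k, by rw [← MulAut.conj_apply, MulEquiv.orderOf_eq, hk]⟩

theorem isPGroup_zpowers_of_pe {x : G} (h : PE p x) : IsPGroup p (zpowers x) := by
  obtain ⟨k, hk⟩ := h
  exact IsPGroup.of_card (n := k) (by rw [Nat.card_zpowers, hk])

theorem exists_sylow_mem [Finite G] [Fact p.Prime] {x : G} (h : PE p x) :
    ∃ P : Sylow p G, x ∈ (P : Subgroup G) := by
  obtain ⟨P, hP⟩ := (isPGroup_zpowers_of_pe h).exists_le_sylow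
  exact ⟨P, hP (mem_zpowers x)⟩

theorem eq_one_of_pe_pow {x : G} (h : PE p x) {n : ℕ} (hn : Nat.Coprime n p)
    (hx : x ^ n = 1) : x = 1 := by
  obtain ⟨k, hk⟩ := h
  rw [← orderOf_eq_one_iff]
  exact Nat.eq_one_of_dvd_coprimes (hn.pow_right k) (orderOf_dvd_of_pow_eq_one hx) (hk ▸ dvd_rfl)

/-- A `p`-element lies in every normalized subgroup of index prime to `p`. -/
theorem mem_of_pe [Finite G] {K H : Subgroup G} (hHK : H ≤ normalizer (K : Set G))
    {x : G} (hx : PE p x) (hxH : x ∈ H) (hcop : Nat.Coprime (K.relIndex H) p) : x ∈ K := by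
  have hn : (K.subgroupOf H).Normal := normal_subgroupOf_of_le_normalizer hHK
  obtain ⟨k, hk⟩ := hx
  set y : H ⧸ K.subgroupOf H := QuotientGroup.mk ⟨x, hxH⟩ with hy
  have h1 : orderOf y ∣ p ^ k := by
    rw [hy, ← hk, ← Subgroup.orderOf_mk x hxH]
    exact orderOf_map_dvd (QuotientGroup.mk' (K.subgroupOf H)) _
  have h2 : orderOf y ∣ K.relIndex H := orderOf_dvd_natCard y
  have h3 : y = 1 := orderOf_eq_one_iff.1 (Nat.eq_one_of_dvd_coprimes (hcop.pow_right k) h2 h1)
  exact mem_subgroupOf.1 ((QuotientGroup.eq_one_iff _).1 h3)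

theorem Mix.false [Finite G] (hmix : Mix p q G) (hq : q.Prime) (hpG : p ∣ Nat.card G)
    (H : Subgroup G) (hpH : ¬ p ∣ Nat.card H) (hqH : q ∣ Nat.card H) {r : ℕ} (hr : r.Prime)
    (hrq : r ≠ q) (hrH : r ∣ Nat.card H) : False := by
  haveI := Fact.mk hq
  refine hpH (hmix H (fun e => hpH ?_) (fun h => ?_) hqH)
  · rw [e, Subgroup.card_top]; exact hpG
  · obtain ⟨n, hn⟩ := IsPGroup.iff_card.mp h
    exact hrq ((Nat.prime_dvd_prime_iff_eq hr hq).1 (hr.dvd_of_dvd_pow (hn ▸ hrH)))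

/-- A subgroup of order divisible by `r` normalized by one of order divisible by `q`, both of
order prime to `p`. -/
theorem Mix.false_of_normalizes [Finite G] (hmix : Mix p q G) (hp : p.Prime) (hq : q.Prime)
    (hpG : p ∣ Nat.card G) {R S : Subgroup G} (h : S ≤ normalizer (R : Set G))
    (hR : ¬ p ∣ Nat.card R) (hS : ¬ p ∣ Nat.card S)
    (hqd : q ∣ Nat.card R ∨ q ∣ Nat.card S) {r : ℕ} (hr : r.Prime) (hrq : r ≠ q)
    (hrd : r ∣ Nat.card R ∨ r ∣ Nat.card S) : False := by
  refine hmix.false hq hpG (R ⊔ S) (fun hd => ?_) ?_ hr hrq ?_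
  · rcases (Nat.Prime.dvd_mul hp).1 (hd.trans (Core.card_sup_dvd_of_le_normalizer h)) with e | e
    · exact hR e
    · exact hS e
  · rcases hqd with e | e
    · exact e.trans (Subgroup.card_dvd_of_le le_sup_left)
    · exact e.trans (Subgroup.card_dvd_of_le le_sup_right)
  · rcases hrd with e | e
    · exact e.trans (Subgroup.card_dvd_of_le le_sup_left)
    · exact e.trans (Subgroup.card_dvd_of_le le_sup_right)

/-- A `p`-element normalizing a `q`-group `R` centralizes it, or `|R| ≥ p + 1`, with transitivity on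
the non-trivial elements in case of equality. -/
theorem orbit_facts [Finite G] (hp : p.Prime) (hq : q.Prime) (hpq : p ≠ q) {R : Subgroup G}
    (hR : IsPGroup q R) {x : G} (hx : x ∈ normalizer (R : Set G)) (hxp : PE p x) :
    x ∈ centralizer (R : Set G) ∨ (p + 1 ≤ Nat.card R ∧ (Nat.card R = p + 1 →
      ∀ a ∈ R, ∀ b ∈ R, a ≠ 1 → b ≠ 1 → ∃ k : ℤ, x ^ k * a * (x ^ k)⁻¹ = b)) := by
  classical
  haveI := Fact.mk hp
  haveI := Fact.mk hq
  refine or_iff_not_imp_left.2 fun hxc => ?_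
  have hle : zpowers x ≤ normalizer (R : Set G) := zpowers_le.2 hx
  letI : MulAction (zpowers x) R := MulAction.compHom R
    ((normalizerMonoidHom R).comp (Subgroup.inclusion hle))
  have hsmul : ∀ (s : zpowers x) (a : R), ((s • a : R) : G) = (s : G) * a * (s : G)⁻¹ :=
    fun s a => rfl
  have hS : IsPGroup p (zpowers x) := isPGroup_zpowers_of_pe hxp
  let C : Subgroup G := R ⊓ centralizer ({x} : Set G)
  have hC : Nat.card (MulAction.fixedPoints (zpowers x) R) = Nat.card C := by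
    refine Nat.card_congr
      { toFun := fun a => ⟨(a.1 : G), a.1.2, ?_⟩
        invFun := fun c => ⟨⟨c.1, c.2.1⟩, ?_⟩
        left_inv := fun a => rfl
        right_inv := fun c => rfl }
    · have := congrArg Subtype.val (a.2 ⟨x, mem_zpowers x⟩)
      rw [hsmul] at this
      exact mem_centralizer_singleton_iff.2 (mul_inv_eq_iff_eq_mul.1 this).symm
    · intro s
      refine Subtype.ext ?_
      rw [hsmul]
      obtain ⟨i, hi⟩ := mem_zpowers_iff.1 s.2
      have hc : Commute (c.1 : G) x := mem_centralizer_singleton_iff.1 c.2.2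
      show (s : G) * c.1 * (s : G)⁻¹ = c.1
      rw [mul_inv_eq_iff_eq_mul, ← hi]
      exact (hc.zpow_right i).eq.symm
  have hmod := hS.card_modEq_card_fixedPoints (α := R)
  rw [hC] at hmod
  have hCR : C ≤ R := inf_le_left
  obtain ⟨m, hm⟩ := Subgroup.card_dvd_of_le hCR
  obtain ⟨nR, hnR⟩ := IsPGroup.iff_card.mp hR
  obtain ⟨nC, hnC⟩ := IsPGroup.iff_card.mp (hR.to_le hCR)
  have hne : C ≠ R := fun e => hxc (mem_centralizer_iff.2 fun a ha =>
    mem_centralizer_singleton_iff.1 ((e.ge ha).2))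
  have hcpos : 0 < Nat.card C := Nat.card_pos
  have hm2 : 2 ≤ m := by
    by_contra h2
    interval_cases m
    · exact absurd hm (by simpa using (Nat.card_pos (α := R)).ne')
    · exact hne (eq_of_le_of_card_ge hCR (by rw [hm, mul_one]))
  have hdvd : p ∣ m - 1 := by
    have h1 : p ∣ Nat.card R - Nat.card C := (Nat.modEq_iff_dvd' (by
      rw [hm]; exact Nat.le_mul_of_pos_right _ (by omega))).1 hmod.symm
    rw [hm, show Nat.card C * m - Nat.card C = Nat.card C * (m - 1) by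
      rw [Nat.mul_sub, mul_one], hnC] at h1
    refine (Nat.Coprime.dvd_of_dvd_mul_left ?_ h1)
    exact ((Nat.coprime_primes hp hq).2 hpq).pow_right _
  have hpm : p + 1 ≤ m := by
    have := Nat.le_of_dvd (by omega) hdvd
    omega
  refine ⟨hpm.trans (by rw [hm]; exact Nat.le_mul_of_pos_left _ hcpos), fun hR1 a ha b hb ha1 hb1 => ?_⟩
  have hC1 : Nat.card C = 1 := by
    by_contra h1
    have : 2 * (p + 1) ≤ Nat.card C * m := Nat.mul_le_mul (by omega) hpm
    omega
  have hCbot : C = ⊥ := eq_bot_of_card_eq _ hC1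
  let O := MulAction.orbit (zpowers x) (⟨a, ha⟩ : R)
  obtain ⟨n, hn⟩ := hS.card_orbit (⟨a, ha⟩ : R)
  have hn0 : n ≠ 0 := by
    intro h0
    rw [h0, pow_zero] at hn
    have hsub := (Nat.card_eq_one_iff_unique.1 hn).1
    have : (⟨x, mem_zpowers x⟩ : zpowers x) • (⟨a, ha⟩ : R) = ⟨a, ha⟩ :=
      congrArg Subtype.val (hsub.elim (⟨_, MulAction.mem_orbit _ _⟩ : O) ⟨_, MulAction.mem_orbit_self _⟩)
    have h2 := congrArg Subtype.val this
    rw [hsmul] at h2
    have : a ∈ C := ⟨ha, mem_centralizer_singleton_iff.2 (mul_inv_eq_iff_eq_mul.1 h2).symm⟩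
    rw [hCbot, mem_bot] at this
    exact ha1 this
  have hO1 : (1 : R) ∉ O := by
    rintro ⟨s, hs⟩
    have h2 := congrArg Subtype.val hs
    rw [hsmul] at h2
    exact ha1 (conj_eq_one_iff.1 h2)
  have hsubset : O ⊆ ({1}ᶜ : Set R) := fun y hy e => hO1 (Set.mem_singleton_iff.1 e ▸ hy)
  have heq : O = ({1}ᶜ : Set R) := by
    refine Set.eq_of_subset_of_ncard_le hsubset ?_ (Set.toFinite _)
    rw [Set.ncard_compl, Set.ncard_singleton, hR1, ← Nat.card_coe_set_eq, hn]
    have := Nat.le_self_pow hn0 p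
    omega
  obtain ⟨s, hs⟩ : (⟨b, hb⟩ : R) ∈ O := by
    rw [heq]
    exact fun e => hb1 (congrArg Subtype.val (Set.mem_singleton_iff.1 e))
  obtain ⟨k, hk⟩ := mem_zpowers_iff.1 s.2
  refine ⟨k, ?_⟩
  rw [hk, ← hsmul s ⟨a, ha⟩]
  exact congrArg Subtype.val hs

end Cfsg.Agent.MixPQ
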