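import Cfsg.Agent.MixPQ.Klein
import Mathlib.GroupTheory.FixedPointFree
import Mathlib.GroupTheory.GroupAction.ConjAct

/-!
Counting involutions refutes the simple configuration.
-/

set_option autoImplicit false

namespace Cfsg.Agent.MixPQ.Cfg

open Subgroup Cfsg
open scoped Pointwise

universe u

variable {G : Type u} [Group G] [Finite G] {p : ℕ}

theorem exists_sylow_two (_h : Cfg p G) {u : G} (hu : orderOf u = 2) :
    ∃ Q : Sylow 2 G, u ∈ (Q : Subgroup G) :=
  exists_sylow_mem (p := 2) ⟨1, by rw [hu, pow_one]⟩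

theorem mem_of_pe_two (h : Cfg p G) (Q : Sylow 2 G) {u : G} (hu : orderOf u = 2)
    (hN : u ∈ normalizer ((Q : Subgroup G) : Set G)) : u ∈ (Q : Subgroup G) := by
  refine mem_of_pe (p := 2) le_rfl ⟨1, by rw [hu, pow_one]⟩ hN ?_
  refine ((Nat.Prime.coprime_iff_not_dvd Nat.prime_two).2 fun hd => ?_).symm
  exact Q.not_dvd_index (hd.trans (Dvd.intro _ (relIndex_mul_index le_normalizer)))

theorem odd_pe (h : Cfg p G) {x : G} (hx : PE p x) (hx1 : x ≠ 1) : x * x ≠ 1 := by
  intro e
  exact hx1 (eq_one_of_pe_pow hx (n := 2)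
    ((Nat.coprime_primes Nat.prime_two h.hp).2 (Ne.symm h.hp2)) (by rw [pow_two]; exact e))

theorem normalizer_zpowers_ne_top (h : Cfg p G) {x : G} (hx : PE p x) (hx1 : x ≠ 1) :
    normalizer ((zpowers x : Subgroup G) : Set G) ≠ ⊤ :=
  h.normalizer_ne_top (fun e => hx1 (zpowers_eq_bot.1 e))
    (fun e => h.not_isPGroup_top ((e ▸ isPGroup_zpowers_of_pe hx).of_equiv Subgroup.topEquiv))

theorem mem_normalizer_zpowers {g x : G} (hgx : g * x = x * g) :
    g ∈ normalizer ((zpowers x : Subgroup G) : Set G) :=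
  centralizer_le_normalizer _ (mem_centralizer_iff.2 fun b hb => by
    obtain ⟨i, rfl⟩ := mem_zpowers_iff.1 hb
    exact ((show Commute g x from hgx).zpow_right i).eq.symm)

/-- A Sylow `p`-subgroup normalized by `Q` yields a contradiction. -/
theorem no_normalized (h : Cfg p G) (Q : Sylow 2 G) (P : Sylow p G)
    (hQP : (Q : Subgroup G) ≤ normalizer ((P : Subgroup G) : Set G)) : False := by
  haveI := h.fact
  obtain ⟨a, ha, ha1, b, hb, hb1, hba⟩ : ∃ a ∈ (Q : Subgroup G), a ≠ 1 ∧
      ∃ b ∈ (Q : Subgroup G), b ≠ 1 ∧ b * a ≠ 1 := by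
    have h4 : 4 ≤ Nat.card (Q : Subgroup G) := by
      rw [h.sylow_card]
      have := h.hp.two_le
      have := h.hp2
      omega
    obtain ⟨a, ha, ha1⟩ : ∃ a ∈ (Q : Subgroup G), a ≠ 1 := by
      by_contra! hh
      have := (Subgroup.eq_bot_iff_forall _).2 hh
      rw [this, Subgroup.card_bot] at h4
      omega
    refine ⟨a, ha, ha1, ?_⟩
    by_contra! hh
    have hsub : ((Q : Subgroup G) : Set G) ⊆ {1, a⁻¹} := by
      intro b hb
      by_cases hb1 : b = 1
      · exact Or.inl hb1
      · exact Or.inr (eq_inv_of_mul_eq_one_left (hh b hb hb1))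
    have := Set.ncard_le_ncard hsub (Set.toFinite _)
    rw [Set.ncard_pair (fun e => ha1 (inv_eq_one.1 e.symm)), ← Nat.card_coe_set_eq] at this
    simp only [SetLike.coe_sort_coe] at this
    omega
  refine h.no_full Q P (h.fix_le Q P hQP ha hb ?_)
  intro w hw z hz hzw
  simp only [Set.mem_insert_iff, Set.mem_singleton_iff] at hw
  have hzc : z ∈ centralizer ({w} : Set G) := mem_centralizer_singleton_iff.2 hzw
  rcases hw with rfl | rfl | rfl
  · exact h.cent_le Q ha ha1 hzc (pe_of_mem P.2 hz)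
  · exact h.cent_le Q hb hb1 hzc (pe_of_mem P.2 hz)
  · exact h.cent_le Q (mul_mem hb ha) hba hzc (pe_of_mem P.2 hz)

/-- The centralizer of a non-trivial real `p`-element has odd order. -/
theorem real_odd (h : Cfg p G) {x t u : G} (hx : PE p x) (hx1 : x ≠ 1) (ht : orderOf t = 2)
    (htx : t * x * t⁻¹ = x⁻¹) (hu : orderOf u = 2) (hux : u * x = x * u) : False := by
  haveI := h.fact
  obtain ⟨Q, hQ⟩ := h.exists_sylow_two hu
  have hu1 : u ≠ 1 := fun e => by simp [e] at hu
  have hxQ := h.cent_le Q hQ hu1 (mem_centralizer_singleton_iff.2 hux.symm) hx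
  obtain ⟨P, hP⟩ := exists_sylow_mem hx
  have hQH : (Q : Subgroup G) ≤ normalizer ((zpowers x : Subgroup G) : Set G) :=
    fun q hq => mem_normalizer_zpowers (mem_centralizer_iff.1 hxQ q hq)
  have hPH : (P : Subgroup G) ≤ normalizer ((zpowers x : Subgroup G) : Set G) :=
    fun q hq => mem_normalizer_zpowers (h.comm_pe P hq hP)
  have htH : t ∈ normalizer ((zpowers x : Subgroup G) : Set G) := by
    rw [mem_normalizer_iff_map_conj_eq, MonoidHom.map_zpowers]
    show zpowers (t * x * t⁻¹) = _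
    rw [htx, zpowers_inv]
  rcases h.split (h.normalizer_zpowers_ne_top hx hx1) Q P hQH hPH with hc | hc
  · have htQ := h.mem_of_pe_two Q ht (hc htH)
    rw [mem_centralizer_iff.1 hxQ t htQ, mul_inv_cancel_right] at htx
    exact h.odd_pe hx hx1 (by nth_rw 2 [htx]; rw [mul_inv_cancel])
  · exact h.no_normalized Q P (hQH.trans hc)

/-- The centralizer of a real `p`-element is a Sylow subgroup inverted by the involution. -/
theorem real_cent (h : Cfg p G) {x t : G} (hx : PE p x) (hx1 : x ≠ 1) (ht : orderOf t = 2)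
    (htx : t * x * t⁻¹ = x⁻¹) :
    ∃ P : Sylow p G, centralizer ({x} : Set G) = (P : Subgroup G) ∧
      ∀ a ∈ (P : Subgroup G), t * a * t⁻¹ = a⁻¹ := by
  haveI := h.fact
  set C := centralizer ({x} : Set G) with hC
  have htt : t * t = 1 := by rw [← pow_two, ← ht, pow_orderOf_eq_one]
  have ht1 : t ≠ 1 := fun e => by simp [e] at ht
  have hti : t⁻¹ = t := inv_eq_of_mul_eq_one_right htt
  have hCodd : ¬ 2 ∣ Nat.card C := by
    intro hd
    obtain ⟨u, hu⟩ := exists_prime_orderOf_dvd_card' (hp := ⟨Nat.prime_two⟩) 2 hd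
    exact h.real_odd hx hx1 ht htx (by rw [orderOf_coe, hu] : orderOf (u : G) = 2)
      (mem_centralizer_singleton_iff.1 u.2)
  have hCt : ∀ c ∈ C, t * c * t⁻¹ ∈ C := by
    intro c hc
    rw [hC, mem_centralizer_singleton_iff] at hc ⊢
    have e1 : x = t * x⁻¹ * t⁻¹ := by
      have := congrArg Inv.inv htx
      simp only [mul_inv_rev, inv_inv, ← mul_assoc] at this
      exact this.symm
    have hc' : Commute c x⁻¹ := (show Commute c x from hc).inv_right
    calc t * c * t⁻¹ * x = t * c * t⁻¹ * (t * x⁻¹ * t⁻¹) := by rw [← e1]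
      _ = t * (c * x⁻¹) * t⁻¹ := by group
      _ = t * (x⁻¹ * c) * t⁻¹ := by rw [hc'.eq]
      _ = (t * x⁻¹ * t⁻¹) * (t * c * t⁻¹) := by group
      _ = _ := by rw [← e1]
  obtain ⟨Q, hQ⟩ := h.exists_sylow_two ht
  have hfix : ∀ z ∈ C, z * t = t * z → z = 1 := by
    intro z hzC hzt
    by_contra hz1
    have hzo : ∀ r : ℕ, r.Prime → r ∣ orderOf z → r = p := by
      intro r hr hd
      have hH := h.centralizer_ne_top ht1
      have htH : t ∈ centralizer ({t} : Set G) := mem_centralizer_singleton_iff.2 rfl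
      have hzH : z ∈ centralizer ({t} : Set G) := mem_centralizer_singleton_iff.2 hzt
      rcases h.sub _ hH (ht ▸ Subgroup.orderOf_mk t htH ▸ orderOf_dvd_natCard (⟨t, htH⟩ : centralizer ({t} : Set G))) r hr
          (hd.trans (Subgroup.orderOf_mk z hzH ▸ orderOf_dvd_natCard (⟨z, hzH⟩ : centralizer ({t} : Set G)))) with e | e
      · exact absurd ((e ▸ hd).trans (Subgroup.orderOf_mk z hzC ▸ orderOf_dvd_natCard (⟨z, hzC⟩ : C))) hCodd
      · exact e
    have hzp : PE p z := ⟨_, Nat.eq_prime_pow_of_unique_prime_dvd (orderOf_pos _).ne' fun {r} => hzo r⟩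
    have hzQ := h.cent_le Q hQ ht1 (mem_centralizer_singleton_iff.2 hzt) hzp
    have hzx : z * x = x * z := mem_centralizer_singleton_iff.1 hzC
    obtain ⟨P, hzP, hxP⟩ := h.exists_sylow_pair hzp hx hzx
    have hH := h.centralizer_ne_top hz1
    have hQH : (Q : Subgroup G) ≤ centralizer ({z} : Set G) :=
      fun q hq => mem_centralizer_singleton_iff.2 (mem_centralizer_iff.1 hzQ q hq)
    have hPH : (P : Subgroup G) ≤ centralizer ({z} : Set G) :=
      fun q hq => mem_centralizer_singleton_iff.2 (h.comm_pe P hq hzP)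
    rcases h.split hH Q P hQH hPH with hc | hc
    · have hxN := hc (hPH hxP)
      have h1 := (mem_normalizer_iff.1 hxN t).1 hQ
      have e : x * t * x⁻¹ = x * x * t := by
        calc x * t * x⁻¹ = x * (t * x⁻¹ * t⁻¹) * t := by group
          _ = x * x * t := by
            rw [show t * x⁻¹ * t⁻¹ = (t * x * t⁻¹)⁻¹ by group, htx, inv_inv]
      rw [e] at h1
      have h2 : x * x ∈ (Q : Subgroup G) ⊓ P := by
        refine ⟨?_, mul_mem hxP hxP⟩
        have := mul_mem h1 hQ
        rwa [mul_assoc, htt, mul_one] at this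
      rw [disjoint_iff.1 (IsPGroup.disjoint_of_ne 2 p (Ne.symm h.hp2) _ _ Q.2 P.2), mem_bot] at h2
      exact h.odd_pe hx hx1 h2
    · exact h.no_normalized Q P (hQH.trans hc)
  let φ : C →* C :=
    { toFun := fun c => ⟨t * c * t⁻¹, hCt c c.2⟩
      map_one' := Subtype.ext (by simp)
      map_mul' := fun a b => Subtype.ext (by simp [mul_assoc]) }
  have hφ : MonoidHom.FixedPointFree φ := fun c hc =>
    Subtype.ext (hfix c c.2 (mul_inv_eq_iff_eq_mul.1 (congrArg Subtype.val hc)).symm)
  have hinv2 : Function.Involutive φ := fun c => Subtype.ext (by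
    show t * (t * c * t⁻¹) * t⁻¹ = c
    rw [hti, show t * (t * (c : G) * t) * t = (t * t) * c * (t * t) by group, htt, one_mul, mul_one])
  have hinvert : ∀ c ∈ C, t * c * t⁻¹ = c⁻¹ := fun c hc =>
    congrArg Subtype.val (congrFun (hφ.coe_eq_inv_of_involutive hinv2) ⟨c, hc⟩)
  have hCp : IsPGroup p C := by
    refine IsPGroup.of_card (Nat.eq_prime_pow_of_unique_prime_dvd Nat.card_pos.ne' fun {r} hr hd => ?_)
    by_contra hrp
    obtain ⟨w, hw⟩ := exists_prime_orderOf_dvd_card' (hp := ⟨hr⟩) r hd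
    have hwo : orderOf (w : G) = r := by rw [orderOf_coe, hw]
    have htn : zpowers t ≤ normalizer ((zpowers (w : G) : Subgroup G) : Set G) := by
      rw [zpowers_le, mem_normalizer_iff_map_conj_eq, MonoidHom.map_zpowers]
      show zpowers (t * (w : G) * t⁻¹) = _
      rw [hinvert _ w.2, zpowers_inv]
    refine h.mix.false_of_normalizes h.hp Nat.prime_two h.hpG htn ?_ ?_
      (Or.inr (by rw [Nat.card_zpowers, ht])) hr (fun e => hCodd (e ▸ hd))
      (Or.inl (by rw [Nat.card_zpowers, hwo]))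
    · rw [Nat.card_zpowers, hwo]
      exact fun hd' => hrp ((Nat.prime_dvd_prime_iff_eq h.hp hr).1 hd').symm
    · rw [Nat.card_zpowers, ht]
      exact fun hd' => h.hp2 ((Nat.prime_dvd_prime_iff_eq h.hp Nat.prime_two).1 hd')
  obtain ⟨P, hP⟩ := hCp.exists_le_sylow
  have hxP : x ∈ (P : Subgroup G) := hP (mem_centralizer_singleton_iff.2 rfl)
  have heq : C = (P : Subgroup G) :=
    le_antisymm hP fun a ha => mem_centralizer_singleton_iff.2 (h.comm_pe P ha hxP)
  exact ⟨P, heq, fun a ha => hinvert a (heq.ge ha)⟩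

/-- The product of two non-commuting involutions is a `p`-element. -/
theorem pe_mul (h : Cfg p G) {s t : G} (hs : orderOf s = 2) (ht : orderOf t = 2)
    (hne : s * t ≠ t * s) : PE p (t * s) := by
  haveI := h.fact
  have hss : s * s = 1 := by rw [← pow_two, ← hs, pow_orderOf_eq_one]
  have htt : t * t = 1 := by rw [← pow_two, ← ht, pow_orderOf_eq_one]
  have hsi : s⁻¹ = s := inv_eq_of_mul_eq_one_right hss
  have hti : t⁻¹ = t := inv_eq_of_mul_eq_one_right htt
  have hinvert : ∀ i : ℕ, t * (t * s) ^ i * t⁻¹ = ((t * s) ^ i)⁻¹ := by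
    intro i
    rw [← conj_pow, ← inv_pow]
    congr 1
    rw [mul_inv_rev, hsi, hti, ← mul_assoc, htt, one_mul]
  refine ⟨_, Nat.eq_prime_pow_of_unique_prime_dvd (orderOf_pos _).ne' fun {r} hr hd => ?_⟩
  by_contra hrp
  set w := (t * s) ^ (orderOf (t * s) / r) with hw
  have hwo : orderOf w = r := orderOf_pow_orderOf_div (orderOf_pos _).ne' hd
  by_cases hr2 : r = 2
  · subst hr2
    have hw1 : w ≠ 1 := fun e => by simp [e] at hwo
    have hwi : w⁻¹ = w := inv_eq_of_mul_eq_one_right (by rw [← pow_two, ← hwo, pow_orderOf_eq_one])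
    have htw : t * w = w * t := by
      have := hinvert (orderOf (t * s) / 2)
      rw [← hw, hwi] at this
      exact mul_inv_eq_iff_eq_mul.1 this
    have hsw : s * w = w * s := by
      have h1 : Commute (t * s) w := (Commute.refl (t * s)).pow_right _
      have h2 := (show Commute t w from htw).mul_left h1
      rwa [← mul_assoc, htt, one_mul] at h2
    obtain ⟨Q, hQ⟩ := h.exists_sylow_two hwo
    obtain ⟨O, hOC, hOp, -, -, hOsup⟩ := h.exists_odd Q hQ hw1
    have hQn : centralizer ({w} : Set G) ≤ normalizer ((Q : Subgroup G) : Set G) := by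
      refine hOsup.trans (sup_le (fun z hz => centralizer_le_normalizer _ ?_) le_normalizer)
      exact h.cent_le Q hQ hw1 (hOC hz) (pe_of_mem hOp hz)
    have hsQ := h.mem_of_pe_two Q hs (hQn (mem_centralizer_singleton_iff.2 hsw))
    have htQ := h.mem_of_pe_two Q ht (hQn (mem_centralizer_singleton_iff.2 htw))
    exact hne (h.comm_sylow Q hsQ htQ)
  · have htn : zpowers t ≤ normalizer ((zpowers w : Subgroup G) : Set G) := by
      rw [zpowers_le, mem_normalizer_iff_map_conj_eq, MonoidHom.map_zpowers]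
      show zpowers (t * w * t⁻¹) = _
      rw [hw, hinvert, zpowers_inv]
    refine h.mix.false_of_normalizes h.hp Nat.prime_two h.hpG htn ?_ ?_
      (Or.inr (by rw [Nat.card_zpowers, ht])) hr hr2
      (Or.inl (by rw [Nat.card_zpowers, hwo]))
    · rw [Nat.card_zpowers, hwo]
      exact fun hd' => hrp ((Nat.prime_dvd_prime_iff_eq h.hp hr).1 hd').symm
    · rw [Nat.card_zpowers, ht]
      exact fun hd' => h.hp2 ((Nat.prime_dvd_prime_iff_eq h.hp Nat.prime_two).1 hd')

/-- Every Sylow `p`-subgroup is inverted by some involution, each element being real. -/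
theorem exists_inverter (h : Cfg p G) (P : Sylow p G) :
    ∃ t : G, orderOf t = 2 ∧ ∀ a ∈ (P : Subgroup G), t * a * t⁻¹ = a⁻¹ := by
  haveI := h.fact
  obtain ⟨Q⟩ := (inferInstance : Nonempty (Sylow 2 G))
  obtain ⟨a, ha, ha1⟩ : ∃ a ∈ (Q : Subgroup G), a ≠ 1 := by
    by_contra! hh
    have := h.sylow_card Q
    rw [(Subgroup.eq_bot_iff_forall _).2 hh, Subgroup.card_bot] at this
    have := h.hp.two_le
    omega
  obtain ⟨b, hb, hab⟩ : ∃ b : G, orderOf b = 2 ∧ a * b ≠ b * a := by
    by_contra! hh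
    haveI := h.simple
    have hn : (Q : Subgroup G).Normal := by
      refine ⟨fun q hq g => ?_⟩
      rcases eq_or_ne q 1 with rfl | hq1
      · simp
      have hgo : orderOf (g * q * g⁻¹) = 2 := by
        rw [← MulAut.conj_apply, MulEquiv.orderOf_eq]
        exact orderOf_eq_prime (by rw [pow_two]; exact h.invol Q q hq) hq1
      refine h.mem_of_pe_two Q hgo (centralizer_le_normalizer _ (mem_centralizer_iff.2 fun c hc => ?_))
      rcases eq_or_ne c 1 with rfl | hc1
      · simp
      · obtain ⟨y, -, -, hy⟩ := h.trans Q a ha c hc ha1 hc1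
        have hgo' : orderOf (y⁻¹ * (g * q * g⁻¹) * y) = 2 := by
          have : y⁻¹ * (g * q * g⁻¹) * y = MulAut.conj y⁻¹ (g * q * g⁻¹) := by simp
          rw [this, MulEquiv.orderOf_eq, hgo]
        have e := hh _ hgo'
        rw [← hy]
        calc y * a * y⁻¹ * (g * q * g⁻¹) = y * (a * (y⁻¹ * (g * q * g⁻¹) * y)) * y⁻¹ := by group
          _ = y * ((y⁻¹ * (g * q * g⁻¹) * y) * a) * y⁻¹ := by rw [e]
          _ = _ := by group
    rcases hn.eq_bot_or_eq_top with e | e
    · rw [e] at ha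
      exact ha1 (mem_bot.1 ha)
    · refine h.hp2 ((Nat.prime_dvd_prime_iff_eq h.hp Nat.prime_two).1 ?_)
      obtain ⟨n, hn'⟩ := IsPGroup.iff_card.mp Q.2
      rw [e, Subgroup.card_top] at hn'
      exact h.hp.dvd_of_dvd_pow (hn' ▸ h.hpG)
  have hao : orderOf a = 2 := orderOf_eq_prime (by rw [pow_two]; exact h.invol Q a ha) ha1
  have hai : a⁻¹ = a := inv_eq_of_mul_eq_one_right (h.invol Q a ha)
  have hbb : b * b = 1 := by rw [← pow_two, ← hb, pow_orderOf_eq_one]
  have hx := h.pe_mul hao hb hab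
  have hx1 : b * a ≠ 1 := fun e => hab (by
    rw [mul_eq_one_iff_eq_inv, hai] at e
    rw [e])
  obtain ⟨P₁, -, hP₁⟩ := h.real_cent hx hx1 hb (by
    rw [mul_inv_rev, hai, inv_eq_of_mul_eq_one_right hbb, ← mul_assoc, hbb, one_mul])
  obtain ⟨g, rfl⟩ := MulAction.exists_smul_eq G P₁ P
  refine ⟨g * b * g⁻¹, by rw [← MulAut.conj_apply, MulEquiv.orderOf_eq, hb], ?_⟩
  intro c hc
  rw [Sylow.coe_subgroup_smul] at hc
  obtain ⟨d, hd, rfl⟩ := hc
  show g * b * g⁻¹ * (g * d * g⁻¹) * (g * b * g⁻¹)⁻¹ = (g * d * g⁻¹)⁻¹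
  rw [show g * b * g⁻¹ * (g * d * g⁻¹) * (g * b * g⁻¹)⁻¹ = g * (b * d * b⁻¹) * g⁻¹ by group,
    hP₁ d hd, conj_inv]

theorem contradiction (h : Cfg p G) : False := by
  classical
  haveI := h.fact
  let Inv' := {s : G // orderOf s = 2}
  -- centralizers of non-trivial elements of Sylow subgroups
  have hTI : ∀ P : Sylow p G, ∀ a ∈ (P : Subgroup G), a ≠ 1 →
      centralizer ({a} : Set G) = (P : Subgroup G) := by
    intro P a ha ha1
    obtain ⟨t, ht, htP⟩ := h.exists_inverter P
    obtain ⟨P', hP', -⟩ := h.real_cent (pe_of_mem P.2 ha) ha1 ht (htP a ha)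
    have hle : (P : Subgroup G) ≤ P' :=
      hP' ▸ fun c hc => mem_centralizer_singleton_iff.2 (h.comm_pe P hc ha)
    rw [hP', P.3 P'.2 hle]
  -- centralizers of involutions
  have hcentt : ∀ (Q : Sylow 2 G) (t : G), t ∈ (Q : Subgroup G) → t ≠ 1 →
      centralizer ({t} : Set G) = (Q : Subgroup G) := by
    intro Q t htQ ht1
    obtain ⟨O, hOC, hOp, -, -, hOsup⟩ := h.exists_odd Q htQ ht1
    have hO : O = ⊥ := by
      rw [Subgroup.eq_bot_iff_forall]
      intro z hz
      by_contra hz1
      obtain ⟨P, hzP⟩ := exists_sylow_mem (pe_of_mem hOp hz)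
      obtain ⟨s, hs, hsP⟩ := h.exists_inverter P
      exact h.real_odd (pe_of_mem hOp hz) hz1 hs (hsP z hzP)
        (orderOf_eq_prime (by rw [pow_two]; exact h.invol Q t htQ) ht1)
        (mem_centralizer_singleton_iff.1 (hOC hz)).symm
    rw [hO, bot_sup_eq] at hOsup
    exact le_antisymm hOsup
      fun q hq => mem_centralizer_singleton_iff.2 (h.comm_sylow Q hq htQ)
  -- the inverters of `P`
  let Inverts : Sylow p G → G → Prop := fun P t =>
    orderOf t = 2 ∧ ∀ a ∈ (P : Subgroup G), t * a * t⁻¹ = a⁻¹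
  have hPne : ∀ P : Sylow p G, (P : Subgroup G) ≠ ⊥ := fun P =>
    P.ne_bot_of_dvd_card h.hpG
  have hinvcard : ∀ P : Sylow p G, Nat.card {t // Inverts P t} = Nat.card (P : Subgroup G) := by
    intro P
    obtain ⟨t, ht, htP⟩ := h.exists_inverter P
    obtain ⟨⟨c, hc⟩, hc1'⟩ := Subgroup.ne_bot_iff_exists_ne_one.1 (hPne P)
    have hc1 : c ≠ 1 := fun e => hc1' (Subtype.ext e)
    have htt : t * t = 1 := by rw [← pow_two, ← ht, pow_orderOf_eq_one]
    have hti : t⁻¹ = t := inv_eq_of_mul_eq_one_right htt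
    refine Nat.card_congr (Equiv.symm (Equiv.ofBijective
      (fun a : (P : Subgroup G) => (⟨t * a, ?_, ?_⟩ : {t // Inverts P t})) ⟨?_, ?_⟩))
    · refine orderOf_eq_prime ?_ (fun e => ?_)
      · rw [pow_two, show t * (a : G) * (t * a) = (t * a * t⁻¹) * (t * t) * a by group, htP a a.2,
          htt, mul_one, inv_mul_cancel]
      · refine h.odd_pe (pe_of_mem P.2 hc) hc1 ?_
        have h1 := htP c hc
        have h2 : t = (a : G)⁻¹ := eq_inv_of_mul_eq_one_left e
        rw [h2, h.comm_pe P (inv_mem a.2) hc, mul_inv_cancel_right] at h1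
        nth_rw 2 [h1]
        rw [mul_inv_cancel]
    · intro b hb
      rw [show t * (a : G) * b * (t * a)⁻¹ = t * (a * b * (a : G)⁻¹) * t⁻¹ by group,
        h.comm_pe P a.2 hb, mul_inv_cancel_right, htP b hb]
    · intro a b hab
      exact Subtype.ext (mul_left_cancel (congrArg Subtype.val hab))
    · rintro ⟨u, hu, huP⟩
      refine ⟨⟨t⁻¹ * u, ?_⟩, Subtype.ext (mul_inv_cancel_left t u)⟩
      rw [← hTI P c hc hc1, mem_centralizer_singleton_iff]
      have e1 := huP c hc
      have e2 : t⁻¹ * c⁻¹ * t = c := by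
        rw [← htP c hc]; group
      calc t⁻¹ * u * c = t⁻¹ * (u * c * u⁻¹) * u := by group
        _ = t⁻¹ * c⁻¹ * t * (t⁻¹ * u) := by rw [e1]; group
        _ = _ := by rw [e2]
  obtain ⟨Q⟩ := (inferInstance : Nonempty (Sylow 2 G))
  obtain ⟨t₀, ht₀, ht₀1⟩ : ∃ a ∈ (Q : Subgroup G), a ≠ 1 := by
    by_contra! hh
    have := h.sylow_card Q
    rw [(Subgroup.eq_bot_iff_forall _).2 hh, Subgroup.card_bot] at this
    have := h.hp.two_le
    omega
  have hinvol : ∀ z : G, orderOf z = 2 → IsConj t₀ z := by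
    intro z hz
    obtain ⟨Q', hQ'⟩ := h.exists_sylow_two hz
    obtain ⟨c, rfl⟩ := MulAction.exists_smul_eq G Q Q'
    rw [Sylow.coe_subgroup_smul] at hQ'
    obtain ⟨a, ha, hza⟩ := hQ'
    have ha1 : a ≠ 1 := by
      rintro rfl
      simp at hza
      rw [← hza, orderOf_one] at hz
      omega
    obtain ⟨y, -, -, hy⟩ := h.trans Q t₀ ht₀ a ha ht₀1 ha1
    exact (isConj_iff.2 ⟨y, hy⟩).trans (isConj_iff.2 ⟨c, hza⟩)
  -- the number of involutions
  have hn : Nat.card Inv' * (p + 1) = Nat.card G := by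
    have hset : {s : G | orderOf s = 2} = MulAction.orbit (ConjAct G) t₀ := by
      ext z
      rw [ConjAct.mem_orbit_conjAct]
      constructor
      · exact fun hz => (hinvol z hz).symm
      · intro hz
        obtain ⟨c, hc⟩ := isConj_iff.1 hz.symm
        show orderOf z = 2
        rw [← hc, ← MulAut.conj_apply, MulEquiv.orderOf_eq]
        exact orderOf_eq_prime (by rw [pow_two]; exact h.invol Q t₀ ht₀) ht₀1
    have h1 : Nat.card Inv' = (MulAction.orbit (ConjAct G) t₀).ncard := by
      rw [← hset, ← Nat.card_coe_set_eq]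
      rfl
    have h2 : (centralizer ({t₀} : Set G)).index = (MulAction.orbit (ConjAct G) t₀).ncard := by
      rw [← MulAction.index_stabilizer, ConjAct.stabilizer_eq_centralizer]
      rfl
    rw [h1, ← h2, mul_comm, ← h.sylow_card Q, ← hcentt Q t₀ ht₀ ht₀1]
    exact card_mul_index _
  -- the number of Sylow subgroups
  obtain ⟨P₀⟩ := (inferInstance : Nonempty (Sylow p G))
  set m := Nat.card (P₀ : Subgroup G) with hm
  have hPm : ∀ P : Sylow p G, Nat.card (P : Subgroup G) = m := fun P =>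
    (Sylow.card_eq_multiplicity P).trans (Sylow.card_eq_multiplicity P₀).symm
  have hN : Nat.card (Sylow p G) * (2 * m) = Nat.card G := by
    rw [Sylow.card_eq_index_normalizer P₀, mul_comm]
    suffices hc : Nat.card (normalizer ((P₀ : Subgroup G) : Set G)) = 2 * m by
      rw [← hc]; exact card_mul_index _
    obtain ⟨t, ht, htP⟩ := h.exists_inverter P₀
    obtain ⟨⟨c, hc⟩, hc1'⟩ := Subgroup.ne_bot_iff_exists_ne_one.1 (hPne P₀)
    have hc1 : c ≠ 1 := fun e => hc1' (Subtype.ext e)
    have htt : t * t = 1 := by rw [← pow_two, ← ht, pow_orderOf_eq_one]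
    have ht1 : t ≠ 1 := fun e => by simp [e] at ht
    have htN : t ∈ normalizer ((P₀ : Subgroup G) : Set G) := by
      rw [mem_normalizer_iff]
      intro a
      constructor
      · intro ha; rw [htP a ha]; exact inv_mem ha
      · intro ha
        have e := htP _ ha
        have : a = (t * a * t⁻¹)⁻¹ := by
          rw [← e, show t * (t * a * t⁻¹) * t⁻¹ = (t * t) * a * (t * t)⁻¹ by group, htt]
          simp
        rw [this]; exact inv_mem ha
    obtain ⟨Q₁, hQ₁⟩ := h.exists_sylow_two ht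
    have hle : normalizer ((P₀ : Subgroup G) : Set G) ≤ (P₀ : Subgroup G) ⊔ zpowers t := by
      intro g hg
      -- `g t g⁻¹` inverts `P₀`
      have hgt : Inverts P₀ (g * t * g⁻¹) := by
        refine ⟨by rw [← MulAut.conj_apply, MulEquiv.orderOf_eq, ht], fun a ha => ?_⟩
        have ha' : g⁻¹ * a * g ∈ (P₀ : Subgroup G) := by
          refine (mem_normalizer_iff.1 hg _).2 ?_
          rw [show g * (g⁻¹ * a * g) * g⁻¹ = a by group]
          exact ha
        rw [show g * t * g⁻¹ * a * (g * t * g⁻¹)⁻¹ = g * (t * (g⁻¹ * a * g) * t⁻¹) * g⁻¹ by group,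
          htP _ ha']
        group
      have hb : t * (g * t * g⁻¹) ∈ (P₀ : Subgroup G) := by
        rw [← hTI P₀ c hc hc1, mem_centralizer_singleton_iff]
        have e1 := hgt.2 c hc
        have e2 : t * c⁻¹ * t = c := by
          have := htP c⁻¹ (inv_mem hc)
          rwa [inv_inv, inv_eq_of_mul_eq_one_right htt] at this
        calc t * (g * t * g⁻¹) * c = t * (g * t * g⁻¹ * c * (g * t * g⁻¹)⁻¹) * (g * t * g⁻¹) := by group
          _ = t * c⁻¹ * (t * t) * (g * t * g⁻¹) := by rw [e1, htt, mul_one]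
          _ = t * c⁻¹ * t * (t * (g * t * g⁻¹)) := by group
          _ = _ := by rw [e2]
      set a := t * (g * t * g⁻¹) with ha
      obtain ⟨k, hk⟩ := pe_of_mem P₀.2 hb
      obtain ⟨j, hj⟩ := (h.hp.odd_of_ne_two h.hp2).pow (n := k)
      set b := a ^ (j + 1) with hbdef
      have hbb : b * b = a := by
        rw [hbdef, ← pow_add, show j + 1 + (j + 1) = orderOf a + 1 by omega, pow_succ,
          pow_orderOf_eq_one, one_mul]
      have hbP : b ∈ (P₀ : Subgroup G) := pow_mem hb _
      have hbg : b * g ∈ centralizer ({t} : Set G) := by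
        rw [mem_centralizer_singleton_iff]
        have e : g * t * g⁻¹ = t * (b * b) := by
          rw [hbb, ha, ← mul_assoc t t, htt, one_mul]
        have e' : t * b = b⁻¹ * t := by rw [← htP b hbP]; group
        calc b * g * t = b * (g * t * g⁻¹) * g := by group
          _ = b * (t * b) * b * g := by rw [e]; group
          _ = b * (b⁻¹ * t) * b * g := by rw [e']
          _ = _ := by group
      rw [hcentt Q₁ t hQ₁ ht1] at hbg
      set v := b * g with hv
      have hvN : v ∈ normalizer ((P₀ : Subgroup G) : Set G) := mul_mem (le_normalizer hbP) hg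
      have hgv : g = b⁻¹ * v := by rw [hv, inv_mul_cancel_left]
      rw [hgv]
      refine mul_mem (inv_mem ((le_sup_left : (P₀ : Subgroup G) ≤ _) hbP)) ?_
      rcases eq_or_ne v 1 with hv1 | hv1
      · rw [hv1]; exact one_mem _
      have hvt : v = t := by
        by_contra hvt
        have hvv := h.invol Q₁ v hbg
        have hvi : v⁻¹ = v := inv_eq_of_mul_eq_one_right hvv
        have hvo : orderOf v = 2 := orderOf_eq_prime (by rw [pow_two]; exact hvv) hv1
        have hcv := (mem_normalizer_iff.1 hvN c).1 hc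
        have hcc : c * (v * c * v⁻¹) = 1 := by
          by_contra hne
          have hmem := mul_mem hc hcv
          refine h.real_odd (pe_of_mem P₀.2 hmem) hne ht (htP _ hmem) hvo ?_
          have hcv' : v * c * v ∈ (P₀ : Subgroup G) := by rwa [hvi] at hcv
          calc v * (c * (v * c * v⁻¹)) = ((v * c * v) * c) * v := by rw [hvi]; group
            _ = (c * (v * c * v)) * v := by rw [h.comm_pe P₀ hc hcv']
            _ = _ := by rw [hvi]
        have hvc : v * c * v⁻¹ = c⁻¹ := (inv_eq_of_mul_eq_one_right hcc).symm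
        refine h.real_odd (pe_of_mem P₀.2 hc) hc1 ht (htP c hc) (u := v * t) ?_ ?_
        · refine orderOf_eq_prime ?_ (fun e => hvt ?_)
          · rw [pow_two, show v * t * (v * t) = v * (t * v) * t by group,
              h.comm_sylow Q₁ hQ₁ hbg, show v * (v * t) * t = (v * v) * (t * t) by group, hvv, htt,
              one_mul]
          · rw [mul_eq_one_iff_eq_inv, inv_eq_of_mul_eq_one_right htt] at e
            exact e
        · calc v * t * c = v * (t * c * t⁻¹) * v⁻¹ * (v * t) := by group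
            _ = (v * c * v⁻¹)⁻¹ * (v * t) := by rw [htP c hc, conj_inv]
            _ = _ := by rw [hvc, inv_inv]
      rw [hvt]
      exact (le_sup_right : zpowers t ≤ _) (mem_zpowers t)
    have heq : normalizer ((P₀ : Subgroup G) : Set G) = (P₀ : Subgroup G) ⊔ zpowers t :=
      le_antisymm hle (sup_le le_normalizer (zpowers_le.2 htN))
    rw [heq]
    refine Nat.dvd_antisymm ?_ ?_
    · have := Core.card_sup_dvd_of_le_normalizer (X := (P₀ : Subgroup G)) (zpowers_le.2 htN)
      rwa [Nat.card_zpowers, ht, mul_comm] at this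
    · refine Nat.Coprime.mul_dvd_of_dvd_of_dvd ?_ ?_ (Subgroup.card_dvd_of_le le_sup_left)
      · obtain ⟨k, hk⟩ := IsPGroup.iff_card.mp P₀.2
        rw [hm, hk]
        exact ((Nat.coprime_primes Nat.prime_two h.hp).2 (Ne.symm h.hp2)).pow_right k
      · have := Subgroup.card_dvd_of_le (le_sup_right (a := (P₀ : Subgroup G)) (b := zpowers t))
        rwa [Nat.card_zpowers, ht] at this
  -- pairs of non-commuting involutions
  let Pairs := Σ s : Inv', {u : Inv' // (u : G) * s ≠ (s : G) * u}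
  haveI := Fintype.ofFinite G
  have hA : Nat.card Pairs = Nat.card Inv' * (Nat.card Inv' - p) := by
    rw [Nat.card_sigma, Finset.sum_const_nat (m := Nat.card Inv' - p) (fun s _ => ?_),
      Finset.card_univ, Nat.card_eq_fintype_card (α := Inv')]
    obtain ⟨Q', hQ'⟩ := h.exists_sylow_two s.2
    have hs1 : (s : G) ≠ 1 := fun e => by have := s.2; simp [e] at this
    have hcomm : Nat.card {u : Inv' // (u : G) * s = (s : G) * u} = p := by
      have e : Nat.card {u : Inv' // (u : G) * s = (s : G) * u} =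
          Nat.card {q : (Q' : Subgroup G) // q ≠ 1} := by
        refine Nat.card_congr
          { toFun := fun u => ⟨⟨(u.1 : G), (hcentt Q' s hQ' hs1).le
              (mem_centralizer_singleton_iff.2 u.2)⟩, ?_⟩
            invFun := fun q => ⟨⟨(q.1 : G), ?_⟩, h.comm_sylow Q' q.1.2 hQ'⟩
            left_inv := fun u => rfl
            right_inv := fun q => rfl }
        · intro e
          have e' : (u.1 : G) = 1 := congrArg Subtype.val e
          have := u.1.2
          simp [e'] at this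
        · exact orderOf_eq_prime (by rw [pow_two]; exact h.invol Q' _ q.1.2)
            (fun e => q.2 (Subtype.ext e))
      rw [e, Nat.card_eq_fintype_card, Fintype.card_subtype_compl, Fintype.card_subtype_eq,
        ← Nat.card_eq_fintype_card, h.sylow_card]
      omega
    rw [Nat.card_eq_fintype_card, Fintype.card_subtype_compl, ← Nat.card_eq_fintype_card,
      ← Nat.card_eq_fintype_card, hcomm]
  let Tri := Σ P : Sylow p G, {t // Inverts P t} × {a : (P : Subgroup G) // a ≠ 1}
  have hB : Nat.card Tri = Nat.card (Sylow p G) * (m * (m - 1)) := by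
    rw [Nat.card_sigma, Finset.sum_const_nat (m := m * (m - 1)) (fun P _ => ?_), Finset.card_univ,
      Nat.card_eq_fintype_card]
    rw [Nat.card_prod, hinvcard P, Nat.card_eq_fintype_card (α := {a : (P : Subgroup G) // a ≠ 1}),
      Fintype.card_subtype_compl, Fintype.card_subtype_eq, ← Nat.card_eq_fintype_card, hPm P]
  have hAB : Nat.card Tri = Nat.card Pairs := by
    refine Nat.card_congr (Equiv.ofBijective (fun x : Tri =>
      (⟨⟨x.2.1.1, x.2.1.2.1⟩, ⟨⟨x.2.1.1 * (x.2.2.1 : G), ?_⟩, ?_⟩⟩ : Pairs)) ⟨?_, ?_⟩)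
    · obtain ⟨P, ⟨t, ht, htP⟩, ⟨⟨a, ha⟩, ha1⟩⟩ := x
      show orderOf (t * a) = 2
      have htt : t * t = 1 := by rw [← pow_two, ← ht, pow_orderOf_eq_one]
      refine orderOf_eq_prime ?_ (fun e => ?_)
      · rw [pow_two, show t * a * (t * a) = (t * a * t⁻¹) * (t * t) * a by group, htP a ha, htt,
          mul_one, inv_mul_cancel]
      · have e' : t = a⁻¹ := eq_inv_of_mul_eq_one_left e
        refine h.odd_pe (pe_of_mem P.2 (inv_mem ha)) (fun e2 => ha1 (Subtype.ext (inv_eq_one.1 e2))) ?_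
        rw [← e', htt]
    · obtain ⟨P, ⟨t, ht, htP⟩, ⟨⟨a, ha⟩, ha1⟩⟩ := x
      show t * a * t ≠ t * (t * a)
      intro e
      have htt : t * t = 1 := by rw [← pow_two, ← ht, pow_orderOf_eq_one]
      have h1 := htP a ha
      rw [inv_eq_of_mul_eq_one_right htt, e, ← mul_assoc, htt, one_mul] at h1
      exact h.odd_pe (pe_of_mem P.2 ha) (fun e2 => ha1 (Subtype.ext e2))
        (by nth_rw 2 [h1]; rw [mul_inv_cancel])
    · rintro ⟨P, ⟨t, ht⟩, ⟨⟨a, ha⟩, ha1⟩⟩ ⟨P', ⟨t', ht'⟩, ⟨⟨a', ha'⟩, ha1'⟩⟩ heq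
      have e1 : t = t' := congrArg (fun x : Pairs => (x.1 : G)) heq
      have e2 : t * a = t' * a' := congrArg (fun x : Pairs => (x.2.1 : G)) heq
      subst e1
      have e3 := mul_left_cancel e2
      subst e3
      have hP : P = P' := Sylow.ext ((hTI P a ha (fun e => ha1 (Subtype.ext e))).symm.trans
        (hTI P' a ha' (fun e => ha1 (Subtype.ext e))))
      subst hP
      rfl
    · rintro ⟨⟨s, hs⟩, ⟨⟨u, hu⟩, hne⟩⟩
      have hss : s * s = 1 := by rw [← pow_two, ← hs, pow_orderOf_eq_one]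
      have hsi : s⁻¹ = s := inv_eq_of_mul_eq_one_right hss
      have huu : u * u = 1 := by rw [← pow_two, ← hu, pow_orderOf_eq_one]
      have hx : PE p (s * u) := h.pe_mul hu hs hne
      have hx1 : s * u ≠ 1 := fun e => hne (by
        rw [mul_eq_one_iff_inv_eq, hsi] at e
        show u * s = s * u
        rw [e])
      obtain ⟨P, hP, hPi⟩ := h.real_cent hx hx1 hs (by
        rw [mul_inv_rev, inv_eq_of_mul_eq_one_right huu, hsi, ← mul_assoc, hss, one_mul])
      refine ⟨⟨P, ⟨s, hs, hPi⟩, ⟨⟨s * u, hP ▸ mem_centralizer_singleton_iff.2 rfl⟩,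
        fun e => hx1 (congrArg Subtype.val e)⟩⟩, ?_⟩
      have e : s * (s * u) = u := by rw [← mul_assoc, hss, one_mul]
      exact Sigma.ext rfl (heq_of_eq (Subtype.ext (Subtype.ext e)))
  have hm1 : p ≤ m := by
    obtain ⟨k, hk⟩ := IsPGroup.iff_card.mp P₀.2
    rcases Nat.eq_zero_or_pos k with rfl | hk0
    · rw [pow_zero] at hk
      exact absurd (eq_bot_of_card_eq _ hk) (hPne P₀)
    · rw [hm, hk]; exact Nat.le_self_pow hk0.ne' p
  set n := Nat.card Inv' with hndef
  set N := Nat.card (Sylow p G) with hNdef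
  have heq : n * (n - p) = N * (m * (m - 1)) := by rw [← hA, ← hAB, hB]
  have hGpos := Nat.card_pos (α := G)
  have hnpos : 0 < n := by
    by_contra h0
    rw [show n = 0 by omega, zero_mul] at hn
    omega
  have hp2 := h.hp.two_le
  have h2 : 2 * (n - p) = (p + 1) * (m - 1) := by
    refine Nat.eq_of_mul_eq_mul_left hnpos ?_
    calc n * (2 * (n - p)) = 2 * (N * (m * (m - 1))) := by rw [← heq]; ring
      _ = N * (2 * m) * (m - 1) := by ring
      _ = n * (p + 1) * (m - 1) := by rw [hN, hn]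
      _ = _ := by ring
  have hmn : m ∣ n := by
    refine Nat.Coprime.dvd_of_dvd_mul_right ?_ (hn.symm ▸ Subgroup.card_subgroup_dvd_card _)
    obtain ⟨k, hk⟩ := IsPGroup.iff_card.mp P₀.2
    rw [hm, hk]
    refine Nat.Coprime.pow_left k ((Nat.Prime.coprime_iff_not_dvd h.hp).2 fun hd => ?_)
    have := (Nat.dvd_add_right (dvd_refl p)).1 hd
    exact h.hp.one_lt.ne' (Nat.dvd_one.1 this)
  have hnp : p ≤ n := by
    by_contra hnp
    rw [show n - p = 0 by omega, mul_zero] at h2
    rcases Nat.mul_eq_zero.1 h2.symm with e | e <;> omega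
  have h3 : 2 * n = (p + 1) * m + (p - 1) := by
    have : (p + 1) * m = (p + 1) * (m - 1) + (p + 1) := by
      rw [← Nat.mul_succ]; congr 1; omega
    omega
  have h4 : m ∣ p - 1 := (Nat.dvd_add_right (Dvd.intro_left _ rfl)).1 (h3 ▸ hmn.mul_left 2)
  have := Nat.le_of_dvd (by omega) h4
  omega

end Cfsg.Agent.MixPQ.Cfg
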