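import Cfsg.Agent.MixPQ.Local
import Cfsg.Agent.Invol.TransferLemmas
import Cfsg.Agent.BSWAbstract.Main

/-!
In the simple configuration the `p`-elements centralizing an involution centralize its whole
Sylow 2-subgroup: otherwise the Brauer-Suzuki-Wall configuration arises.
-/

set_option autoImplicit false

namespace Cfsg.Agent.MixPQ.Cfg

open Subgroup Cfsg
open scoped Pointwise

universe u

variable {G : Type u} [Group G] [Finite G] {p : ℕ}

theorem coprime_relIndex_normalizer (h : Cfg p G) (P : Sylow p G) :
    Nat.Coprime ((P : Subgroup G).relIndex (normalizer ((P : Subgroup G) : Set G))) p := by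
  haveI := h.fact
  refine ((h.hp.coprime_iff_not_dvd).2 fun hd => ?_).symm
  exact P.not_dvd_index (hd.trans (Dvd.intro _ (relIndex_mul_index le_normalizer)))

/-- No Sylow `p`-subgroup centralizes a Sylow 2-subgroup. -/
theorem no_full (h : Cfg p G) (Q : Sylow 2 G) (P : Sylow p G)
    (hP : (P : Subgroup G) ≤ centralizer ((Q : Subgroup G) : Set G)) : False := by
  haveI := h.fact
  have h4 : 4 ≤ Nat.card (Q : Subgroup G) := by
    rw [h.sylow_card]
    have := h.hp.two_le
    have := h.hp2
    omega
  obtain ⟨a, ha, ha1⟩ : ∃ a ∈ (Q : Subgroup G), a ≠ 1 := by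
    by_contra! hh
    have := (Subgroup.eq_bot_iff_forall _).2 hh
    rw [this, Subgroup.card_bot] at h4
    omega
  obtain ⟨b, hb, hb1, hba⟩ : ∃ b ∈ (Q : Subgroup G), b ≠ 1 ∧ b ≠ a := by
    by_contra! hh
    have hsub : ((Q : Subgroup G) : Set G) ⊆ {1, a} := by
      intro b hb
      by_cases hb1 : b = 1
      · exact Or.inl hb1
      · exact Or.inr (hh b hb hb1)
    have := Set.ncard_le_ncard hsub (Set.toFinite _)
    rw [Set.ncard_pair (Ne.symm ha1), ← Nat.card_coe_set_eq] at this
    simp only [SetLike.coe_sort_coe] at this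
    omega
  obtain ⟨y, hy, hyN, hyab⟩ := h.trans Q a ha b hb ha1 hb1
  have hcop : Nat.Coprime ((centralizer ((Q : Subgroup G) : Set G)).relIndex
      (normalizer ((Q : Subgroup G) : Set G))) p := by
    refine ((h.hp.coprime_iff_not_dvd).2 fun hd => ?_).symm
    exact P.not_dvd_index ((hd.trans
      (Dvd.intro _ (relIndex_mul_index (centralizer_le_normalizer _)))).trans (index_dvd_of_le hP))
  have hNC : normalizer ((Q : Subgroup G) : Set G) ≤
      normalizer ((centralizer ((Q : Subgroup G) : Set G) : Subgroup G) : Set G) := by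
    intro g hg
    rw [mem_normalizer_iff]
    intro c
    simp only [mem_centralizer_iff]
    constructor
    · intro hc q hq
      have hq' := (mem_normalizer_iff.1 hg (g⁻¹ * q * g)).2
        (by rw [show g * (g⁻¹ * q * g) * g⁻¹ = q by group]; exact hq)
      have e := hc _ hq'
      calc q * (g * c * g⁻¹) = g * ((g⁻¹ * q * g) * c) * g⁻¹ := by group
        _ = g * (c * (g⁻¹ * q * g)) * g⁻¹ := by rw [e]
        _ = _ := by group
    · intro hc q hq
      have e := hc _ ((mem_normalizer_iff.1 hg q).1 hq)
      calc q * c = g⁻¹ * (g * q * g⁻¹ * (g * c * g⁻¹)) * g := by group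
        _ = g⁻¹ * (g * c * g⁻¹ * (g * q * g⁻¹)) * g := by rw [e]
        _ = _ := by group
  have hyc := mem_of_pe hNC hy hyN hcop
  rw [mem_centralizer_iff] at hyc
  refine hba ?_
  rw [← hyab, ← hyc a ha, mul_inv_cancel_right]

/-- A subgroup generated by a Sylow 2-subgroup and a Sylow `p`-subgroup exhausts every proper
subgroup of even order containing them. -/
theorem eq_sup (h : Cfg p G) {H : Subgroup G} (hH : H ≠ ⊤) (Q : Sylow 2 G) (P : Sylow p G)
    (hQ : (Q : Subgroup G) ≤ H) (hP : (P : Subgroup G) ≤ H) :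
    H = (P : Subgroup G) ⊔ Q := by
  haveI := h.fact
  have h2H : 2 ∣ Nat.card H := by
    refine Dvd.dvd.trans ?_ (Subgroup.card_dvd_of_le hQ)
    rw [h.sylow_card]
    obtain ⟨k, hk⟩ := h.hp.odd_of_ne_two h.hp2
    omega
  refine (eq_of_le_of_card_ge (sup_le hP hQ) (Nat.le_of_dvd Nat.card_pos ?_)).symm
  rw [Nat.dvd_iff_prime_pow_dvd_dvd]
  intro r k hr hd
  rcases Nat.eq_zero_or_pos k with rfl | hk
  · simp
  have hdG : r ^ k ∣ Nat.card G := hd.trans (Subgroup.card_subgroup_dvd_card H)
  rcases h.sub H hH h2H r hr ((dvd_pow_self r hk.ne').trans hd) with e | e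
  · subst e
    refine Dvd.dvd.trans ?_ (Subgroup.card_dvd_of_le le_sup_right)
    rw [Sylow.card_eq_multiplicity Q]
    exact pow_dvd_pow 2 ((hr.pow_dvd_iff_le_factorization Nat.card_pos.ne').1 hdG)
  · subst e
    refine Dvd.dvd.trans ?_ (Subgroup.card_dvd_of_le le_sup_left)
    rw [Sylow.card_eq_multiplicity P]
    exact pow_dvd_pow r ((hr.pow_dvd_iff_le_factorization Nat.card_pos.ne').1 hdG)

theorem commutator_eq_top (h : Cfg p G) : commutator G = ⊤ := by
  haveI := h.simple
  refine ((inferInstance : (commutator G).Normal).eq_bot_or_eq_top).resolve_left fun he => ?_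
  haveI := h.fact
  have hc : center G = ⊤ := by
    refine eq_top_iff.2 fun a _ => mem_center_iff.2 fun b => ?_
    have := commutator_mem_commutator (mem_top b) (mem_top a)
    rw [← commutator_def, he, mem_bot, commutatorElement_eq_one_iff_mul_comm] at this
    exact this
  rw [h.center_eq_bot] at hc
  have : Subsingleton G := (Subgroup.subsingleton_iff).1 (subsingleton_of_bot_eq_top hc)
  have := h.hpG
  rw [Nat.card_of_subsingleton (1 : G)] at this
  exact h.hp.one_lt.ne' (Nat.dvd_one.1 this)

/-- The subgroup `P × ⟨t⟩`. -/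
def kleinK (P : Subgroup G) (t : G) (ht : t * t = 1) (hc : ∀ a ∈ P, a * t = t * a) : Subgroup G where
  carrier := {g | g ∈ P ∨ g * t ∈ P}
  one_mem' := Or.inl P.one_mem
  mul_mem' := by
    rintro a b (ha | ha) (hb | hb)
    · exact Or.inl (P.mul_mem ha hb)
    · exact Or.inr (by rw [mul_assoc]; exact P.mul_mem ha hb)
    · right
      rw [mul_assoc, hc b hb, ← mul_assoc]
      exact P.mul_mem ha hb
    · left
      have : a * b = a * t * (b * t) := by
        calc a * b = a * (b * (t * t)) := by rw [ht, mul_one]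
          _ = a * ((b * t) * t) := by group
          _ = a * (t * (b * t)) := by rw [hc _ hb]
          _ = _ := by group
      rw [this]
      exact P.mul_mem ha hb
  inv_mem' := by
    rintro a (ha | ha)
    · exact Or.inl (P.inv_mem ha)
    · right
      have e := hc _ (P.inv_mem ha)
      have : a⁻¹ * t = (a * t)⁻¹ := by
        have ti : t⁻¹ = t := inv_eq_of_mul_eq_one_right ht
        calc a⁻¹ * t = t * (a * t)⁻¹ * t := by rw [mul_inv_rev, ti, ← mul_assoc, ht, one_mul]
          _ = t * ((a * t)⁻¹ * t) := by group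
          _ = t * (t * (a * t)⁻¹) := by rw [e]
          _ = _ := by rw [← mul_assoc, ht, one_mul]
      rw [this]
      exact P.inv_mem ha

/-- The Brauer-Suzuki-Wall configuration does not occur. -/
theorem no_bsw (h : Cfg p G) (hp3 : p = 3) (Q : Sylow 2 G) (P : Sylow p G) {t s : G}
    (htQ : t ∈ (Q : Subgroup G)) (hsQ : s ∈ (Q : Subgroup G)) (ht : t ≠ 1) (hs : s ≠ 1)
    (hst : s ≠ t) (hQP : (Q : Subgroup G) ≤ normalizer ((P : Subgroup G) : Set G))
    (htP : ∀ a ∈ (P : Subgroup G), a * t = t * a)
    (hsP : ∀ a ∈ (P : Subgroup G), s * a * s⁻¹ = a⁻¹)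
    (hC : centralizer ({t} : Set G) ≤ (P : Subgroup G) ⊔ Q) : False := by
  classical
  haveI := h.fact
  haveI := Fintype.ofFinite G
  have htt := h.invol Q t htQ
  have hss := h.invol Q s hsQ
  have hto : orderOf t = 2 := orderOf_eq_prime (by rw [pow_two]; exact htt) ht
  have hso : orderOf s = 2 := orderOf_eq_prime (by rw [pow_two]; exact hss) hs
  set K := kleinK (P : Subgroup G) t htt htP with hK
  have memK : ∀ g, g ∈ K ↔ g ∈ (P : Subgroup G) ∨ g * t ∈ (P : Subgroup G) := fun g => Iff.rfl
  have htK : t ∈ K := (memK t).2 (Or.inr (by rw [htt]; exact one_mem _))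
  have hPK : (P : Subgroup G) ≤ K := fun a ha => (memK a).2 (Or.inl ha)
  have hinv1 : ∀ a, a ∈ (P : Subgroup G) → a * a = 1 → a = 1 := by
    intro a ha haa
    refine eq_one_of_pe_pow (pe_of_mem P.2 ha) (n := 2) ?_ (by rw [pow_two]; exact haa)
    exact (Nat.coprime_primes Nat.prime_two h.hp).2 (Ne.symm h.hp2)
  have hsK : s ∉ K := by
    rintro (hh | hh)
    · exact hs (hinv1 s hh hss)
    · refine hst ?_
      have := hinv1 _ hh (h.invol Q _ (mul_mem hsQ htQ))
      rw [mul_eq_one_iff_eq_inv, inv_eq_of_mul_eq_one_right htt] at this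
      exact this
  have hPt : ∀ a ∈ (P : Subgroup G), a ∈ centralizer ({t} : Set G) :=
    fun a ha => mem_centralizer_singleton_iff.2 (htP a ha)
  have hQeq : ∀ q ∈ (Q : Subgroup G), q = 1 ∨ q = t ∨ q = s ∨ q = s * t := by
    have hcard : Nat.card (Q : Subgroup G) = 4 := by rw [h.sylow_card, hp3]
    intro q hq
    by_contra! hh
    have hsub : ({1, t, s, s * t, q} : Finset G) ⊆ Finset.univ.filter (· ∈ (Q : Subgroup G)) := by
      intro a ha
      simp only [Finset.mem_insert, Finset.mem_singleton] at ha
      rcases ha with rfl | rfl | rfl | rfl | rfl <;>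
        simp [one_mem, htQ, hsQ, hq, mul_mem hsQ htQ]
    have h5 := Finset.card_le_card hsub
    rw [← Fintype.card_subtype, ← Nat.card_eq_fintype_card, hcard] at h5
    have e1 : s * t ≠ 1 := fun e => hst (by
      rw [mul_eq_one_iff_eq_inv, inv_eq_of_mul_eq_one_right htt] at e; exact e)
    have e2 : s * t ≠ t := fun e => hs (mul_eq_right.1 e)
    have e3 : s * t ≠ s := fun e => ht (mul_eq_left.1 e)
    rw [Finset.card_insert_of_notMem (by simp [Ne.symm ht, Ne.symm hs, Ne.symm e1, Ne.symm hh.1]),
      Finset.card_insert_of_notMem (by simp [Ne.symm hst, Ne.symm e2, Ne.symm hh.2.1]),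
      Finset.card_insert_of_notMem (by simp [Ne.symm e3, Ne.symm hh.2.2.1]),
      Finset.card_insert_of_notMem (by simp [Ne.symm hh.2.2.2]), Finset.card_singleton] at h5
    omega
  have hsN : ∀ a ∈ K, s * a * s⁻¹ = a⁻¹ := by
    rintro a (ha | ha)
    · exact hsP a ha
    · have := hsP _ ha
      have hst' : s * t * s⁻¹ = t := by rw [h.comm_sylow Q hsQ htQ, mul_inv_cancel_right]
      have ti : t⁻¹ = t := inv_eq_of_mul_eq_one_right htt
      calc s * a * s⁻¹ = (s * (a * t) * s⁻¹) * (s * t * s⁻¹)⁻¹ := by group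
        _ = (a * t)⁻¹ * t := by rw [this, hst', ti]
        _ = t * a⁻¹ * t := by rw [mul_inv_rev, ti]
        _ = a⁻¹ := by
          have e : t * a⁻¹ = a⁻¹ * t := by
            have hat : Commute a t := by
              have h1 : Commute (a * t) t := htP _ ha
              simpa [mul_assoc, htt] using h1.mul_left (Commute.refl t)
            exact hat.inv_left.eq.symm
          rw [e, mul_assoc, htt, mul_one]
  have H : BSWAbstract.Hyp t s K :=
    { ht := hto
      comm := by
        have hc : ∀ a ∈ K, ∀ b ∈ (P : Subgroup G), a * b = b * a := by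
          rintro a (ha | ha) b hb
          · exact h.comm_pe P ha hb
          · have h1 : Commute (a * t) b := h.comm_pe P ha hb
            have h2 : Commute t b := (htP b hb).symm
            have := h1.mul_left h2
            rwa [mul_assoc, htt, mul_one] at this
        rintro a ha b (hb | hb)
        · exact hc a ha b hb
        · have h1 : Commute a (b * t) := hc a ha _ hb
          have h2 : Commute a t := by
            rcases ha with ha | ha
            · exact htP a ha
            · have h1 : Commute (a * t) t := htP _ ha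
              have := h1.mul_left (Commute.refl t)
              rwa [mul_assoc, htt, mul_one] at this
          have := h1.mul_right h2
          rwa [mul_assoc, htt, mul_one] at this
      htK := htK
      hs := hso
      hsK := hsK
      hH := by
        refine le_antisymm (sup_le (fun a ha => ?_) (zpowers_le.2
          (mem_centralizer_singleton_iff.2 (h.comm_sylow Q hsQ htQ)))) (hC.trans (sup_le
            (hPK.trans le_sup_left) fun q hq => ?_))
        · rcases ha with ha | ha
          · exact hPt a ha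
          · have := mul_mem (hPt _ ha) (mem_centralizer_singleton_iff.2 rfl : t ∈ centralizer ({t} : Set G))
            rwa [mul_assoc, htt, mul_one] at this
        · have hs' : s ∈ K ⊔ zpowers s := (le_sup_right : zpowers s ≤ _) (mem_zpowers s)
          have ht' : t ∈ K ⊔ zpowers s := (le_sup_left : K ≤ _) htK
          rcases hQeq q hq with rfl | rfl | rfl | rfl
          exacts [one_mem _, ht', hs', mul_mem hs' ht']
      hCK := by
        refine le_antisymm (fun a ha => ?_) (zpowers_le.2 ⟨htK, mem_centralizer_singleton_iff.2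
          (h.comm_sylow Q htQ hsQ)⟩)
        have h1 := hsN a ha.1
        have h2 : s * a * s⁻¹ = a := by
          rw [← (mem_centralizer_singleton_iff.1 ha.2), mul_inv_cancel_right]
        have h3 : a * a = 1 := by
          rw [h1] at h2
          exact (congrArg (· * a) h2).symm.trans (inv_mul_cancel a)
        rcases ha.1 with hh | hh
        · rw [hinv1 a hh h3]; exact one_mem _
        · have hat : Commute a t := by
            have h1 : Commute (a * t) t := htP _ hh
            simpa [mul_assoc, htt] using h1.mul_left (Commute.refl t)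
          have : (a * t) * (a * t) = 1 := by
            rw [show a * t * (a * t) = a * (t * a) * t by group, ← hat.eq,
              show a * (a * t) * t = (a * a) * (t * t) by group, h3, htt, one_mul]
          have := hinv1 _ hh this
          rw [mul_eq_one_iff_eq_inv, inv_eq_of_mul_eq_one_right htt] at this
          rw [this]
          exact mem_zpowers t
      hinv := hsN
      hTI := by
        intro g hg
        rw [eq_bot_iff]
        rintro w ⟨hwK, k, hk, rfl⟩
        rw [mem_bot]
        by_contra hw1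
        have htc : ∀ c ∈ K, c * c = 1 → c ≠ 1 → c = t := by
          rintro c (hh | hh) hcc hc1
          · exact absurd (hinv1 c hh hcc) hc1
          · have hat : Commute c t := by
              have h1 : Commute (c * t) t := htP _ hh
              simpa [mul_assoc, htt] using h1.mul_left (Commute.refl t)
            have : (c * t) * (c * t) = 1 := by
              rw [show c * t * (c * t) = c * (t * c) * t by group, ← hat.eq,
                show c * (c * t) * t = (c * c) * (t * t) by group, hcc, htt, one_mul]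
            have := hinv1 _ hh this
            rwa [mul_eq_one_iff_eq_inv, inv_eq_of_mul_eq_one_right htt] at this
        have hdec : ∀ c ∈ K, c ∉ (P : Subgroup G) → ∃ n : ℕ, c ^ n = t := by
          intro c hc hcP
          have hh := ((memK c).1 hc).resolve_left hcP
          obtain ⟨i, hi⟩ := pe_of_mem P.2 hh
          refine ⟨p ^ i, ?_⟩
          have hat : Commute c t := by
            have h1 : Commute (c * t) t := htP _ hh
            simpa [mul_assoc, htt] using h1.mul_left (Commute.refl t)
          have e : (c * t) ^ p ^ i = 1 := by rw [← hi, pow_orderOf_eq_one]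
          rw [hat.mul_pow] at e
          obtain ⟨j, hj⟩ := (h.hp.odd_of_ne_two h.hp2).pow (n := i)
          rw [hj] at e ⊢
          rw [pow_succ t, pow_mul, pow_two, htt, one_pow, one_mul, mul_eq_one_iff_eq_inv,
            inv_eq_of_mul_eq_one_right htt] at e
          exact e
        have hkey : ∀ c ∈ K, g * c * g⁻¹ ∈ K → c ≠ 1 → c ∈ (P : Subgroup G) ∧
            g * c * g⁻¹ ∈ (P : Subgroup G) := by
          intro c hc hgc hc1
          constructor
          · by_contra hcP
            obtain ⟨n, hn⟩ := hdec c hc hcP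
            have h1 : g * t * g⁻¹ ∈ K := by rw [← hn, ← conj_pow]; exact pow_mem hgc n
            have h2 := htc _ h1 (by rw [conj_mul, htt, mul_one, mul_inv_cancel]) (fun e => ht (conj_eq_one_iff.1 e))
            exact hg (mem_centralizer_singleton_iff.2 (mul_inv_eq_iff_eq_mul.1 h2))
          · by_contra hcP
            obtain ⟨n, hn⟩ := hdec _ hgc hcP
            rw [conj_pow] at hn
            have h1 : g⁻¹ * t * g ∈ K := by
              rw [← hn, show g⁻¹ * (g * c ^ n * g⁻¹) * g = c ^ n by group]
              exact pow_mem hc n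
            have h2 := htc _ h1 (by
              rw [show g⁻¹ * t * g * (g⁻¹ * t * g) = g⁻¹ * (t * t) * g by group, htt, mul_one,
                inv_mul_cancel]) (fun e => ht (by
              have := congrArg (fun v => g * v * g⁻¹) e
              simpa [mul_assoc] using this))
            refine hg (mem_centralizer_singleton_iff.2 ?_)
            rw [mul_assoc, inv_mul_eq_iff_eq_mul] at h2
            exact h2.symm
        have hk1 : k ≠ 1 := fun e => hw1 (by simp [e])
        obtain ⟨hkP, hwP⟩ := hkey k hk hwK hk1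
        set w := (MulAut.conj g).toMonoidHom k with hw
        have hwval : w = g * k * g⁻¹ := rfl
        have hN : normalizer ((zpowers w : Subgroup G) : Set G) ≠ ⊤ := by
          refine h.normalizer_ne_top (fun e => hw1 (zpowers_eq_bot.1 e)) (fun e => h.not_isPGroup_top ?_)
          have := P.2.to_le (zpowers_le.2 hwP)
          rw [← hwval] at this
          exact (e ▸ this).of_equiv Subgroup.topEquiv
        have hQN : (Q : Subgroup G) ≤ normalizer ((zpowers w : Subgroup G) : Set G) := by
          have hcent : ∀ a : G, a * w = w * a → a ∈ normalizer ((zpowers w : Subgroup G) : Set G) :=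
            fun a ha => centralizer_le_normalizer _ (mem_centralizer_iff.2 fun b hb => by
              obtain ⟨i, rfl⟩ := mem_zpowers_iff.1 hb
              exact ((show Commute a w from ha).zpow_right i).eq.symm)
          have htN := hcent t (htP _ hwP).symm
          have hsN' : s ∈ normalizer ((zpowers w : Subgroup G) : Set G) := by
            rw [mem_normalizer_iff_map_conj_eq, MonoidHom.map_zpowers]
            show zpowers (s * w * s⁻¹) = _
            rw [hsP w hwP, zpowers_inv]
          intro q hq
          rcases hQeq q hq with rfl | rfl | rfl | rfl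
          exacts [one_mem _, htN, hsN', mul_mem hsN' htN]
        have hPN : ∀ P' : Sylow p G, w ∈ (P' : Subgroup G) →
            (P' : Subgroup G) ≤ normalizer ((zpowers w : Subgroup G) : Set G) :=
          fun P' hP' a ha => centralizer_le_normalizer _ (mem_centralizer_iff.2 fun b hb => by
            obtain ⟨i, rfl⟩ := mem_zpowers_iff.1 hb
            exact h.comm_pe P' (zpow_mem hP' i) ha)
        rcases h.split hN Q P hQN (hPN P hwP) with hc | hc
        · have hwN : w ∈ normalizer ((Q : Subgroup G) : Set G) :=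
            hc (le_normalizer (mem_zpowers w))
          have h1 : w * s * w⁻¹ ∈ (Q : Subgroup G) := (mem_normalizer_iff.1 hwN s).1 hsQ
          have e : w * s * w⁻¹ = w * w * s := by
            calc w * s * w⁻¹ = w * (s * w⁻¹ * s⁻¹) * s := by group
              _ = w * w * s := by rw [hsP w⁻¹ (inv_mem hwP), inv_inv]
          rw [e] at h1
          have h2 : w * w ∈ (Q : Subgroup G) ⊓ P :=
            ⟨by
              have e2 := mul_mem h1 hsQ
              rwa [mul_assoc, hss, mul_one] at e2, mul_mem hwP hwP⟩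
          rw [disjoint_iff.1 (IsPGroup.disjoint_of_ne 2 p (Ne.symm h.hp2) _ _ Q.2 P.2),
            mem_bot] at h2
          exact hw1 (hinv1 w hwP h2)
        · have hwgP : w ∈ ((g • P : Sylow p G) : Subgroup G) := by
            rw [Sylow.coe_subgroup_smul]
            exact ⟨k, hkP, rfl⟩
          have hle : ((g • P : Sylow p G) : Subgroup G) ≤ normalizer ((P : Subgroup G) : Set G) :=
            (hPN _ hwgP).trans hc
          have hsup : IsPGroup p ((P : Subgroup G) ⊔ (g • P : Sylow p G) : Subgroup G) :=
            P.2.to_sup_of_normal_left' (g • P).2 hle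
          have heq : g • P = P :=
            Sylow.ext (((g • P).3 hsup le_sup_right).symm.trans (P.3 hsup le_sup_left))
          have hgN := Sylow.smul_eq_iff_mem_normalizer.1 heq
          have hNtop : normalizer ((P : Subgroup G) : Set G) ≠ ⊤ := by
            refine h.normalizer_ne_top (fun e => hw1 ?_) (fun e => h.not_isPGroup_top ?_)
            · have := e ▸ hwP
              exact mem_bot.1 this
            · exact (e ▸ P.2).of_equiv Subgroup.topEquiv
          change g ∈ normalizer ((P : Subgroup G) : Set G) at hgN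
          rw [h.eq_sup hNtop Q P hQP le_normalizer] at hgN
          refine hg ((sup_le (fun a ha => hPt a ha) (fun a ha => ?_) :
            (P : Subgroup G) ⊔ Q ≤ centralizer ({t} : Set G)) hgN)
          exact mem_centralizer_singleton_iff.2 (h.comm_sylow Q ha htQ)
      hconj := by
        intro x y hx hy
        have hinvol : ∀ z : G, orderOf z = 2 → ∃ a ∈ (Q : Subgroup G), a ≠ 1 ∧ IsConj a z := by
          intro z hz
          obtain ⟨Q', hQ'⟩ := (IsPGroup.of_card (p := 2) (n := 1)
            (G := zpowers z) (by rw [Nat.card_zpowers, hz, pow_one])).exists_le_sylow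
          obtain ⟨c, hc⟩ := MulAction.exists_smul_eq G Q Q'
          have hz' : z ∈ ((c • Q : Sylow 2 G) : Subgroup G) := hc ▸ hQ' (mem_zpowers z)
          rw [Sylow.coe_subgroup_smul] at hz'
          obtain ⟨a, ha, hza⟩ := hz'
          refine ⟨a, ha, ?_, isConj_iff.2 ⟨c, hza⟩⟩
          rintro rfl
          simp at hza
          rw [← hza, orderOf_one] at hz
          omega
        obtain ⟨a, ha, ha1, hax⟩ := hinvol x hx
        obtain ⟨b, hb, hb1, hby⟩ := hinvol y hy
        obtain ⟨c, -, -, hc⟩ := h.trans Q a ha b hb ha1 hb1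
        exact hax.symm.trans ((isConj_iff.2 ⟨c, hc⟩).trans hby) }
  obtain ⟨A, D, hcard, hAc, hDab, hDA, hAD, hNA, hND⟩ := BSWAbstract.concl H
  have hAodd : ¬ 2 ∣ Nat.card A := by omega
  have hG3 : ∀ x : G, PE p x → x ∈ A → x = 1 := by
    intro x hx hxA
    by_contra hx1
    obtain ⟨P', hP'⟩ := exists_sylow_mem hx
    obtain ⟨c, hc⟩ := MulAction.exists_smul_eq G P P'
    rw [← hc, Sylow.coe_subgroup_smul] at hP'
    obtain ⟨a, ha, hxa⟩ := hP'
    have hco : c * t * c⁻¹ ∈ centralizer ({x} : Set G) := by
      rw [mem_centralizer_singleton_iff, ← hxa]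
      show c * t * c⁻¹ * (c * a * c⁻¹) = c * a * c⁻¹ * (c * t * c⁻¹)
      rw [conj_mul, conj_mul, htP a ha]
    rw [hAc x hxA hx1] at hco
    refine hAodd ?_
    have := orderOf_dvd_natCard (⟨_, hco⟩ : A)
    rwa [Subgroup.orderOf_mk, ← MulAut.conj_apply, MulEquiv.orderOf_eq, hto] at this
  have hpA : ¬ p ∣ Nat.card A := by
    intro hd
    obtain ⟨x, hx⟩ := exists_prime_orderOf_dvd_card' p hd
    have := hG3 (x : G) ⟨1, by rw [orderOf_coe, hx, pow_one]⟩ x.2
    rw [← orderOf_coe, this, orderOf_one] at hx
    exact h.hp.one_lt.ne hx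
  have hA1 : 1 < Nat.card A := by
    by_contra hh
    have h1 : Nat.card A = 1 := le_antisymm (by omega) Nat.card_pos
    rw [h1] at hcard
    have := Nat.card_pos (α := G)
    omega
  obtain ⟨r, hr, hrA⟩ := Nat.exists_prime_and_dvd (ne_of_gt hA1)
  have hr2 : r ≠ 2 := fun e => hAodd (e ▸ hrA)
  have hD3 : IsPGroup p D := by
    refine IsPGroup.of_card (Nat.eq_prime_pow_of_unique_prime_dvd Nat.card_pos.ne' fun {l} hl hd => ?_)
    obtain ⟨x, hx⟩ := exists_prime_orderOf_dvd_card' (hp := ⟨hl⟩) l hd
    have hxo : orderOf (x : G) = l := by rw [orderOf_coe, hx]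
    by_contra hlp
    by_cases hl2 : l = 2
    · subst hl2
      have hxN : zpowers (x : G) ≤ normalizer ((A : Subgroup G) : Set G) :=
        zpowers_le.2 (hNA ▸ (le_sup_right : D ≤ A ⊔ D) x.2)
      exact h.mix.false_of_normalizes h.hp Nat.prime_two h.hpG hxN hpA
        (by rw [Nat.card_zpowers, hxo]; exact fun hd' => h.hp2 ((Nat.prime_dvd_prime_iff_eq h.hp Nat.prime_two).1 hd'))
        (Or.inr (by rw [Nat.card_zpowers, hxo])) hr hr2 (Or.inl hrA)
    · have hX : zpowers (x : G) ≠ ⊥ := by
        rw [Ne, zpowers_eq_bot]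
        intro e
        rw [e, orderOf_one] at hxo
        exact hl.one_lt.ne hxo
      obtain ⟨-, u, hu, -, hui, -⟩ := hND _ (zpowers_le.2 x.2) hX
      have hun : zpowers u ≤ normalizer ((zpowers (x : G) : Subgroup G) : Set G) := by
        rw [zpowers_le, mem_normalizer_iff_map_conj_eq, MonoidHom.map_zpowers]
        show zpowers (u * (x : G) * u⁻¹) = _
        rw [hui _ x.2, zpowers_inv]
      refine h.mix.false_of_normalizes h.hp Nat.prime_two h.hpG hun ?_ ?_
        (Or.inr (by rw [Nat.card_zpowers, hu])) hl hl2 (Or.inl (by rw [Nat.card_zpowers, hxo]))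
      · rw [Nat.card_zpowers, hxo]
        exact fun hd' => hlp ((Nat.prime_dvd_prime_iff_eq h.hp hl).1 hd').symm
      · rw [Nat.card_zpowers, hu]
        exact fun hd' => h.hp2 ((Nat.prime_dvd_prime_iff_eq h.hp Nat.prime_two).1 hd')
  obtain ⟨m, hm⟩ := IsPGroup.iff_card.mp hD3
  subst hp3
  have hm0 : m ≠ 0 := by
    rintro rfl
    rw [pow_zero] at hm
    exact hpA (by rw [← hDA, hm]; norm_num)
  have h3D : 3 ∣ Nat.card D := hm ▸ dvd_pow_self 3 hm0
  have hG : Nat.card G = Nat.card A * (Nat.card A + 1) * Nat.card D := by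
    have : Nat.card A - 1 = 2 * Nat.card D := by omega
    rw [this] at hcard
    linarith
  obtain ⟨P', hP'⟩ := hD3.exists_le_sylow
  have hPD : Nat.card (P' : Subgroup G) = Nat.card D := by
    refine le_antisymm (Nat.le_of_dvd Nat.card_pos ?_) (Nat.le_of_dvd Nat.card_pos (Subgroup.card_dvd_of_le hP'))
    have hd := Subgroup.card_subgroup_dvd_card (P' : Subgroup G)
    rw [hG] at hd
    obtain ⟨k, hk⟩ := IsPGroup.iff_card.mp P'.2
    refine Nat.Coprime.dvd_of_dvd_mul_left ?_ hd
    rw [hk]
    refine Nat.Coprime.pow_left k ((Nat.Prime.coprime_iff_not_dvd h.hp).2 fun hd' => ?_)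
    rcases h.hp.dvd_mul.1 hd' with e | e
    · exact hpA e
    · omega
  have hDeq : D = P' := eq_of_le_of_card_ge hP' hPD.le
  obtain ⟨-, u, hu, -, -, hNDu⟩ := hND D le_rfl (fun e => hm0 (by
    rw [e, Subgroup.card_bot] at hm
    exact (Nat.pow_eq_one.1 hm.symm).resolve_left (by norm_num)))
  have hidx : (normalizer ((P : Subgroup G) : Set G)).index =
      (normalizer ((P' : Subgroup G) : Set G)).index :=
    (Sylow.card_eq_index_normalizer P).symm.trans (Sylow.card_eq_index_normalizer P')
  have h1 := (normalizer ((P : Subgroup G) : Set G)).card_mul_index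
  have h2 := (normalizer ((P' : Subgroup G) : Set G)).card_mul_index
  rw [hidx] at h1
  have hcardN : Nat.card (normalizer ((P : Subgroup G) : Set G)) =
      Nat.card (normalizer ((P' : Subgroup G) : Set G)) :=
    Nat.eq_of_mul_eq_mul_right (Nat.pos_of_ne_zero Subgroup.index_ne_zero_of_finite) (h1.trans h2.symm)
  have hup : Nat.card (normalizer ((P' : Subgroup G) : Set G)) ≤ 2 * Nat.card D := by
    rw [← hDeq, hNDu]
    refine Nat.le_of_dvd (Nat.mul_pos (by norm_num) Nat.card_pos) ?_
    have hn : zpowers u ≤ normalizer (D : Set G) := hNDu ▸ le_sup_right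
    have := Core.card_sup_dvd_of_le_normalizer hn
    rwa [Nat.card_zpowers, hu, mul_comm] at this
  have hlow : 4 * Nat.card (P : Subgroup G) ≤ Nat.card (normalizer ((P : Subgroup G) : Set G)) := by
    refine Nat.le_of_dvd Nat.card_pos (Nat.Coprime.mul_dvd_of_dvd_of_dvd ?_ ?_
      (Subgroup.card_dvd_of_le le_normalizer))
    · obtain ⟨k, hk⟩ := IsPGroup.iff_card.mp P.2
      rw [hk]
      exact Nat.Coprime.pow_right k (by norm_num)
    · have := Subgroup.card_dvd_of_le hQP
      rwa [h.sylow_card] at this
  have hPP' : Nat.card (P : Subgroup G) = Nat.card (P' : Subgroup G) :=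
    (Sylow.card_eq_multiplicity P).trans (Sylow.card_eq_multiplicity P').symm
  have := Nat.card_pos (α := D)
  omega

/-- The `p`-elements centralizing an involution centralize its Sylow 2-subgroup. -/
theorem cent_le (h : Cfg p G) (Q : Sylow 2 G) {t : G} (htQ : t ∈ (Q : Subgroup G)) (ht : t ≠ 1)
    {x : G} (hx : x ∈ centralizer ({t} : Set G)) (hxp : PE p x) :
    x ∈ centralizer ((Q : Subgroup G) : Set G) := by
  classical
  haveI := h.fact
  by_contra hxQ
  obtain ⟨a, ha, hxa⟩ : ∃ a ∈ (Q : Subgroup G), x * a ≠ a * x := by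
    by_contra! hh
    exact hxQ (mem_centralizer_iff.2 fun a ha => (hh a ha).symm)
  have hQC : ∀ b ∈ (Q : Subgroup G), (Q : Subgroup G) ≤ centralizer ({b} : Set G) :=
    fun b hb c hc => mem_centralizer_singleton_iff.2 (h.comm_sylow Q hc hb)
  obtain ⟨O, hOC, hOp, hON, hOmem, hOsup⟩ := h.exists_odd Q htQ ht
  have hxO : x ∈ O := hOmem x hx hxp
  obtain ⟨P, hP⟩ := hOp.exists_le_sylow
  obtain ⟨hQP, huniq⟩ :=
    h.unique_sylow Q hOp ((hQC t htQ).trans hON) ⟨x, hxO, a, ha, hxa⟩ P hP
  have stepA : ∀ s ∈ (Q : Subgroup G), s ≠ 1 → s ≠ t → ∀ z ∈ (P : Subgroup G), z * s = s * z →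
      z ∈ centralizer ((Q : Subgroup G) : Set G) := by
    intro s hsQ hs1 hst z hzP hzs
    by_contra hzQ
    obtain ⟨b, hb, hzb⟩ : ∃ b ∈ (Q : Subgroup G), z * b ≠ b * z := by
      by_contra! hh
      exact hzQ (mem_centralizer_iff.2 fun b hb => (hh b hb).symm)
    obtain ⟨O', hO'C, hO'p, hO'N, hO'mem, -⟩ := h.exists_odd Q hsQ hs1
    obtain ⟨P', hP'⟩ := hO'p.exists_le_sylow
    have hzO' : z ∈ O' := hO'mem z (mem_centralizer_singleton_iff.2 hzs) (pe_of_mem P.2 hzP)
    obtain ⟨-, huniq'⟩ :=
      h.unique_sylow Q hO'p ((hQC s hsQ).trans hO'N) ⟨z, hzO', b, hb, hzb⟩ P' hP'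
    have hZ : IsPGroup p ((P : Subgroup G) ⊓ O' : Subgroup G) := hO'p.to_le inf_le_right
    have hQZ : (Q : Subgroup G) ≤ normalizer (((P : Subgroup G) ⊓ O' : Subgroup G) : Set G) := by
      intro q hq
      rw [mem_normalizer_iff]
      intro c
      simp only [mem_inf]
      rw [← (mem_normalizer_iff.1 (hQP hq) c), ← (mem_normalizer_iff.1 (hO'N (hQC s hsQ hq)) c)]
    obtain ⟨-, huniqZ⟩ :=
      h.unique_sylow Q hZ hQZ ⟨z, ⟨hzP, hzO'⟩, b, hb, hzb⟩ P inf_le_left
    have hPP' : P' = P := huniqZ P' (inf_le_right.trans hP')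
    obtain ⟨y, hy, hyN, hyts⟩ := h.trans Q t htQ s hsQ ht hs1
    have hOy : O' ≤ ((y • P : Sylow p G) : Subgroup G) := by
      intro w hw
      rw [Sylow.coe_subgroup_smul]
      refine ⟨y⁻¹ * w * y, hP (hOmem _ ?_ ?_), ?_⟩
      · rw [mem_centralizer_singleton_iff]
        have e := mem_centralizer_singleton_iff.1 (hO'C hw)
        rw [← hyts] at e
        calc y⁻¹ * w * y * t = y⁻¹ * (w * (y * t * y⁻¹)) * y := by group
          _ = y⁻¹ * (y * t * y⁻¹ * w) * y := by rw [e]
          _ = _ := by group
      · simpa using pe_conj (pe_of_mem hO'p hw) y⁻¹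
      · show y * (y⁻¹ * w * y) * y⁻¹ = w
        group
    have hyP : y • P = P := (huniq' _ hOy).trans hPP'
    have hyP' : y ∈ (P : Subgroup G) :=
      mem_of_pe le_rfl hy (Sylow.smul_eq_iff_mem_normalizer.1 hyP) (h.coprime_relIndex_normalizer P)
    have hyx : Commute y x := h.comm_pe P hyP' (hP hxO)
    rcases orbit_facts h.hp Nat.prime_two h.hp2 Q.2 hyN hy with hc | ⟨-, htr⟩
    · refine hst ?_
      rw [← hyts, ← mem_centralizer_iff.1 hc t htQ, mul_inv_cancel_right]
    · refine hxa ?_
      rcases eq_or_ne a 1 with rfl | ha1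
      · simp
      obtain ⟨k, hk⟩ := htr (h.sylow_card Q) t htQ a ha ht ha1
      have hxt : Commute x t := mem_centralizer_singleton_iff.1 hx
      rw [← hk]
      exact (((hyx.zpow_left k).symm.mul_right hxt).mul_right (hyx.zpow_left k).symm.inv_right).eq
  have hxP : x ∈ (P : Subgroup G) := hP hxO
  obtain ⟨s, hsQ, hs1, hst⟩ : ∃ s ∈ (Q : Subgroup G), s ≠ 1 ∧ s ≠ t := by
    by_contra! hh
    have hsub : ((Q : Subgroup G) : Set G) ⊆ {1, t} := by
      intro b hb
      by_cases hb1 : b = 1
      · exact Or.inl hb1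
      · exact Or.inr (hh b hb hb1)
    have := Set.ncard_le_ncard hsub (Set.toFinite _)
    rw [Set.ncard_pair (Ne.symm ht), ← Nat.card_coe_set_eq] at this
    simp only [SetLike.coe_sort_coe] at this
    rw [h.sylow_card] at this
    have := h.hp.two_le
    omega
  have htt := h.invol Q t htQ
  have hss := h.invol Q s hsQ
  have hst1 : s * t ≠ 1 := fun e => hst (by
    rw [mul_eq_one_iff_eq_inv, inv_eq_of_mul_eq_one_right htt] at e; exact e)
  have hstt : s * t ≠ t := fun e => hs1 (mul_eq_right.1 e)
  have hQ4 : ∀ v ∈ (Q : Subgroup G), v = 1 ∨ v = t ∨ v = s ∨ v = s * t := by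
    intro v hv
    by_contra! hv'
    obtain ⟨v1, v2, v3, v4⟩ := hv'
    have hsv1 : s * v ≠ 1 := fun e => v3 (by
      rw [mul_eq_one_iff_inv_eq, inv_eq_of_mul_eq_one_right hss] at e; exact e.symm)
    have hsvt : s * v ≠ t := fun e => v4 (by rw [← e, ← mul_assoc, hss, one_mul])
    refine hxa (mem_centralizer_iff.1 (h.fix_le Q P hQP hv hsQ ?_ hxP) a ha).symm
    intro w hw z hz hzw
    simp only [Set.mem_insert_iff, Set.mem_singleton_iff] at hw
    rcases hw with rfl | rfl | rfl
    · exact stepA _ hv v1 v2 z hz hzw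
    · exact stepA _ hsQ hs1 hst z hz hzw
    · exact stepA _ (mul_mem hsQ hv) hsv1 hsvt z hz hzw
  have hp3 : p = 3 := by
    have hsub : ((Q : Subgroup G) : Set G) ⊆ {1, t, s, s * t} := fun v hv => hQ4 v hv
    have := Set.ncard_le_ncard hsub (Set.toFinite _)
    rw [← Nat.card_coe_set_eq] at this
    simp only [SetLike.coe_sort_coe] at this
    rw [h.sylow_card] at this
    have h4 : ({1, t, s, s * t} : Set G).ncard ≤ 4 :=
      (Set.ncard_insert_le _ _).trans (Nat.succ_le_succ ((Set.ncard_insert_le _ _).trans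
        (Nat.succ_le_succ ((Set.ncard_insert_le _ _).trans (Nat.succ_le_succ
          (Set.ncard_singleton _).le)))))
    have := h.hp.two_le
    have := h.hp2
    omega
  have hx1 : x ≠ 1 := fun e => hxa (by simp [e])
  have hNtop : normalizer ((P : Subgroup G) : Set G) ≠ ⊤ := by
    refine h.normalizer_ne_top (fun e => hx1 ?_) (fun e => h.not_isPGroup_top ?_)
    · have := e ▸ hxP
      exact mem_bot.1 this
    · exact (e ▸ P.2).of_equiv Subgroup.topEquiv
  have hNeq := h.eq_sup hNtop Q P hQP le_normalizer
  have hD : ∀ z ∈ (P : Subgroup G), z ∈ centralizer ((Q : Subgroup G) : Set G) → z = 1 := by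
    intro z hz hzQ
    set N := normalizer ((P : Subgroup G) : Set G) with hN
    have hc : normalizer ((P : Subgroup G) : Set G) ≤ centralizer ({z} : Set G) := by
      rw [← hN, hNeq]
      exact sup_le (fun c hc => mem_centralizer_singleton_iff.2 (h.comm_pe P hc hz))
        (fun c hc => mem_centralizer_singleton_iff.2 (mem_centralizer_iff.1 hzQ c hc))
    have hfoc := Fusion.commutator_inf_eq_of_controls P N le_normalizer
      (fun c hc' g hg => Fusion.exists_mem_normalizer_conj_of_isMulCommutative P (h.hab P) hc' g hg)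
    have hzN : z ∈ ⁅N, N⁆ ⊓ (P : Subgroup G) := hfoc ▸ ⟨h.commutator_eq_top ▸ mem_top z, hz⟩
    haveI := h.hab P
    haveI : IsMulCommutative ((P.subtype (le_normalizer (H := (P : Subgroup G)))) : Subgroup N) :=
      ⟨⟨fun b c => Subtype.ext (Subtype.ext (h.comm_pe P b.2 c.2))⟩⟩
    have hzc : (⟨z, le_normalizer hz⟩ : N) ∈ commutator N := by
      rw [← map_subtype_commutator] at hzN
      obtain ⟨z', hz', hzz'⟩ := hzN.1
      have : z' = ⟨z, le_normalizer hz⟩ := Subtype.ext hzz'
      rwa [← this]
    have := Invol.eq_one_of_mem_abelian_hall (G := N)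
      ((P.subtype (le_normalizer (H := (P : Subgroup G)))) : Subgroup N)
      (Invol.sylow_hall _) (z := ⟨z, le_normalizer hz⟩) hz hzc
      (mem_center_iff.2 fun c => Subtype.ext (mem_centralizer_singleton_iff.1 (hc c.2)))
    exact congrArg Subtype.val this
  have hinv : ∀ w ∈ (Q : Subgroup G), w ≠ 1 → w ≠ t → ∀ z ∈ (P : Subgroup G),
      w * z * w⁻¹ = z⁻¹ := by
    intro w hw hw1 hwt z hz
    have hwz := (mem_normalizer_iff.1 (hQP hw) z).1 hz
    have hww := h.invol Q w hw
    have hwi : w⁻¹ = w := inv_eq_of_mul_eq_one_right hww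
    have e := hD _ (mul_mem hz hwz) (stepA w hw hw1 hwt _ (mul_mem hz hwz) ?_)
    · exact (inv_eq_of_mul_eq_one_right e).symm
    · have hwz' : w * z * w ∈ (P : Subgroup G) := by rwa [hwi] at hwz
      calc z * (w * z * w⁻¹) * w = z * (w * z) := by group
        _ = (z * (w * z * w)) * w := by simp [mul_assoc, hww]
        _ = ((w * z * w) * z) * w := by rw [h.comm_pe P hz hwz']
        _ = w * (z * (w * z * w⁻¹)) := by rw [hwi]; group
  have htP : ∀ z ∈ (P : Subgroup G), z * t = t * z := by
    intro z hz
    have e1 := hinv (s * t) (mul_mem hsQ htQ) hst1 hstt z hz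
    have hzt := (mem_normalizer_iff.1 (hQP htQ) z).1 hz
    have e2 := hinv s hsQ hs1 hst _ hzt
    rw [show s * t * z * (s * t)⁻¹ = s * (t * z * t⁻¹) * s⁻¹ by group, e2, inv_inj] at e1
    rw [mul_inv_eq_iff_eq_mul] at e1
    exact e1.symm
  exact h.no_bsw hp3 Q P htQ hsQ ht hs1 hst hQP htP (fun z hz => hinv s hsQ hs1 hst z hz)
    (hOsup.trans (sup_le_sup_right hP _))

end Cfsg.Agent.MixPQ.Cfg
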