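import Cfsg.Agent.MixPQ.Basic
import Cfsg.Agent.ThreeInv.Quadratic
import Cfsg.Agent.Core.Fitting

/-!
The local structure of the simple configuration: an elementary abelian Sylow 2-subgroup of order
`p + 1` and abelian Sylow `p`-subgroups.
-/

set_option autoImplicit false

namespace Cfsg.Agent.MixPQ

open Subgroup Cfsg

universe u

/-- The configuration. -/
structure Cfg (p : ℕ) (G : Type u) [Group G] : Prop where
  hp : p.Prime
  hp2 : p ≠ 2
  simple : IsSimpleGroup G
  mix : Mix p 2 G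
  hpG : p ∣ Nat.card G
  sylow_card : ∀ Q : Sylow 2 G, Nat.card (Q : Subgroup G) = p + 1
  hab : ∀ P : Sylow p G, IsMulCommutative (P : Subgroup G)
  sub : ∀ H : Subgroup G, H ≠ ⊤ → 2 ∣ Nat.card H →
    ∀ r : ℕ, r.Prime → r ∣ Nat.card H → r = 2 ∨ r = p
  trans : ∀ Q : Sylow 2 G, ∀ a ∈ (Q : Subgroup G), ∀ b ∈ (Q : Subgroup G), a ≠ 1 → b ≠ 1 →
    ∃ y : G, PE p y ∧ y ∈ normalizer ((Q : Subgroup G) : Set G) ∧ y * a * y⁻¹ = b
  invol : ∀ Q : Sylow 2 G, ∀ a ∈ (Q : Subgroup G), a * a = 1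

variable {G : Type u} [Group G] [Finite G] {p : ℕ}

namespace Cfg

theorem fact (h : Cfg p G) : Fact p.Prime := ⟨h.hp⟩

theorem comm_sylow (h : Cfg p G) (Q : Sylow 2 G) {a b : G} (ha : a ∈ (Q : Subgroup G))
    (hb : b ∈ (Q : Subgroup G)) : a * b = b * a := by
  have h1 := h.invol Q _ (mul_mem ha hb)
  have h2 := h.invol Q a ha
  have h3 := h.invol Q b hb
  calc a * b = a * (a * b * (a * b)) * b := by rw [h1, mul_one]
    _ = (a * a) * (b * a) * (b * b) := by group
    _ = b * a := by rw [h2, h3, one_mul, mul_one]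

theorem comm_pe (h : Cfg p G) (P : Sylow p G) {a b : G} (ha : a ∈ (P : Subgroup G))
    (hb : b ∈ (P : Subgroup G)) : a * b = b * a := by
  have := h.hab P
  exact setLike_mul_comm ha hb

theorem two_dvd (h : Cfg p G) : 2 ∣ Nat.card G := by
  obtain ⟨Q⟩ := (inferInstance : Nonempty (Sylow 2 G))
  refine Dvd.dvd.trans ?_ (Subgroup.card_subgroup_dvd_card (Q : Subgroup G))
  rw [h.sylow_card]
  obtain ⟨k, hk⟩ := h.hp.odd_of_ne_two h.hp2
  omega

theorem center_eq_bot (h : Cfg p G) : center G = ⊥ := by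
  haveI := h.simple
  refine ((inferInstance : (center G).Normal).eq_bot_or_eq_top).resolve_right fun he => ?_
  have hpr : (Nat.card G).Prime := by
    let : CommGroup G :=
      { ‹Group G› with mul_comm := fun a b => mem_center_iff.1 (he.symm ▸ mem_top b) a }
    exact IsSimpleGroup.prime_card
  have h1 := (Nat.prime_dvd_prime_iff_eq h.hp hpr).1 h.hpG
  have h2 := (Nat.prime_dvd_prime_iff_eq Nat.prime_two hpr).1 h.two_dvd
  exact h.hp2 (h1.trans h2.symm)

theorem not_isPGroup_top (h : Cfg p G) : ¬ IsPGroup p G := by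
  intro hG
  haveI := h.fact
  obtain ⟨n, hn⟩ := IsPGroup.iff_card.mp hG
  exact h.hp2 ((Nat.prime_dvd_prime_iff_eq Nat.prime_two h.hp).1
    (Nat.prime_two.dvd_of_dvd_pow (hn ▸ h.two_dvd))).symm

/-- Normalizers of non-trivial proper subgroups are proper. -/
theorem normalizer_ne_top (h : Cfg p G) {R : Subgroup G} (h1 : R ≠ ⊥) (h2 : R ≠ ⊤) :
    normalizer (R : Set G) ≠ ⊤ := by
  intro e
  haveI := h.simple
  rcases (normalizer_eq_top_iff.1 e).eq_bot_or_eq_top with e' | e'
  · exact h1 e'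
  · exact h2 e'

theorem centralizer_ne_top (h : Cfg p G) {x : G} (hx : x ≠ 1) :
    centralizer ({x} : Set G) ≠ ⊤ := by
  intro e
  refine hx ((mem_bot).1 (h.center_eq_bot ▸ mem_center_iff.2 fun g => ?_))
  exact mem_centralizer_singleton_iff.1 (e.symm ▸ mem_top g)

/-- A `p`-element normalizing a 2-subgroup and fixing one of its non-trivial elements, or
normalizing a small 2-subgroup, centralizes it. -/
theorem centralizes (h : Cfg p G) {R : Subgroup G} (hR : IsPGroup 2 R) {x : G} (hxp : PE p x)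
    (hx : x ∈ normalizer (R : Set G))
    (hfix : Nat.card R < p + 1 ∨ ∃ a ∈ R, a ≠ 1 ∧ x * a = a * x) :
    x ∈ centralizer (R : Set G) := by
  rcases orbit_facts h.hp Nat.prime_two h.hp2 hR hx hxp with hc | ⟨hle, htr⟩
  · exact hc
  rcases hfix with hlt | ⟨a, ha, ha1, hxa⟩
  · omega
  · have hcard : Nat.card R = p + 1 := by
      obtain ⟨Q, hQ⟩ := hR.exists_le_sylow
      have h1 := Nat.le_of_dvd Nat.card_pos (Subgroup.card_dvd_of_le hQ)
      rw [h.sylow_card] at h1
      omega
    refine mem_centralizer_iff.2 fun b hb => ?_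
    rcases eq_or_ne b 1 with rfl | hb1
    · simp
    · obtain ⟨k, hk⟩ := htr hcard a ha b hb ha1 hb1
      have hc : Commute x a := hxa
      rw [(hc.zpow_left k).eq, mul_inv_cancel_right] at hk
      rw [← hk]
      exact hxa.symm

/-- A proper subgroup containing a Sylow 2-subgroup and a Sylow `p`-subgroup normalizes one of
them. -/
theorem split (h : Cfg p G) {H : Subgroup G} (hH : H ≠ ⊤) (Q : Sylow 2 G) (P : Sylow p G)
    (hQ : (Q : Subgroup G) ≤ H) (hP : (P : Subgroup G) ≤ H) :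
    H ≤ normalizer ((Q : Subgroup G) : Set G) ∨ H ≤ normalizer ((P : Subgroup G) : Set G) := by
  haveI := h.fact
  have h2H : 2 ∣ Nat.card H := by
    refine Dvd.dvd.trans ?_ (Subgroup.card_dvd_of_le hQ)
    rw [h.sylow_card]
    obtain ⟨k, hk⟩ := h.hp.odd_of_ne_two h.hp2
    omega
  haveI : Group.IsSolvable H := ThreeInv.isSolvable_two_primes p h.hp fun r hr hd =>
    h.sub H hH h2H r hr hd
  set R := (pCore 2 H).map H.subtype with hR
  have hR2 : IsPGroup 2 R := (Core.pCore_isPGroup (p := 2)).map _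
  have hRH : R ≤ H := map_subtype_le _
  have hHR : H ≤ normalizer (R : Set G) := by
    intro g hg
    rw [hR, mem_normalizer_iff]
    intro a
    constructor
    · rintro ⟨b, hb, rfl⟩
      exact ⟨⟨g, hg⟩ * b * ⟨g, hg⟩⁻¹, (inferInstance : (pCore 2 H).Normal).conj_mem b hb _, rfl⟩
    · rintro ⟨b, hb, hb'⟩
      refine ⟨⟨g, hg⟩⁻¹ * b * ⟨g, hg⟩, ?_, ?_⟩
      · simpa using (inferInstance : (pCore 2 H).Normal).conj_mem b hb (⟨g, hg⟩⁻¹)
      · change g⁻¹ * (b : G) * g = a
        change (b : G) = g * a * g⁻¹ at hb'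
        rw [hb']
        group
  by_cases hfull : Nat.card R = p + 1
  · left
    have hRQ : R = (Q : Subgroup G) := by
      have hsup : IsPGroup 2 ((R ⊔ Q : Subgroup G)) :=
        hR2.to_sup_of_normal_left' Q.2 (hQ.trans hHR)
      have hmax := Q.3 hsup le_sup_right
      refine eq_of_le_of_card_ge (le_sup_left.trans hmax.le) ?_
      rw [h.sylow_card, hfull]
    rw [← hRQ]
    exact hHR
  · right
    have hRlt : Nat.card R < p + 1 := by
      obtain ⟨Q', hQ'⟩ := hR2.exists_le_sylow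
      have h1 := Nat.le_of_dvd Nat.card_pos (Subgroup.card_dvd_of_le hQ')
      rw [h.sylow_card] at h1
      omega
    have hle : (P : Subgroup G).subgroupOf H ≤ pCore p H := by
      intro x hx
      have hxP : (x : G) ∈ (P : Subgroup G) := hx
      obtain ⟨k, hk⟩ := pe_of_mem P.2 hxP
      refine Core.mem_pCore_of_mem_fitting (Core.centralizer_fittingSubgroup_le ?_)
        ⟨k, by rw [← orderOf_coe x, hk]⟩
      suffices hF : fittingSubgroup H ≤ centralizer ({x} : Set H) by
        exact mem_centralizer_iff.2 fun y hy => mem_centralizer_singleton_iff.1 (hF hy)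
      rw [Core.fittingSubgroup_eq_iSup_pCore]
      refine iSup_le fun r y hy => mem_centralizer_singleton_iff.2 ?_
      haveI := Fact.mk r.2
      by_cases hr : (r : ℕ) ∣ Nat.card H
      · rcases h.sub H hH h2H r r.2 hr with e | e
        · rw [e] at hy
          have := h.centralizes hR2 ⟨k, hk⟩ (hHR x.2) (Or.inl hRlt)
          exact Subtype.ext (mem_centralizer_iff.1 this _ ⟨y, hy, rfl⟩)
        · rw [e] at hy
          have hy' : y ∈ (P : Subgroup G).subgroupOf H :=
            Core.pCore_le_sylow (P.subtype hP) hy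
          exact Subtype.ext (h.comm_pe P hy' hxP)
      · have h1 : y = 1 := by
          obtain ⟨n, hn⟩ := IsPGroup.iff_card.mp (Core.pCore_isPGroup (p := (r : ℕ)) (G := H))
          by_contra hy1
          refine hr (Dvd.dvd.trans ?_ (Subgroup.card_subgroup_dvd_card (pCore (r : ℕ) H)))
          rw [hn]
          refine dvd_pow_self _ fun hn0 => ?_
          rw [hn0, pow_zero] at hn
          have := (Subgroup.eq_bot_of_card_eq _ hn) ▸ hy
          exact hy1 (mem_bot.1 this)
        rw [h1, one_mul, mul_one]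
    have heq : (P : Subgroup G).subgroupOf H = pCore p H :=
      le_antisymm hle (Core.pCore_le_sylow (P.subtype hP))
    have hn : ((P : Subgroup G).subgroupOf H).Normal := heq ▸ inferInstance
    exact (normal_subgroupOf_iff_le_normalizer hP).1 hn

/-- The `p`-elements of the centralizer of an involution commute and form a group. -/
theorem exists_odd (h : Cfg p G) (Q : Sylow 2 G) {t : G} (htQ : t ∈ (Q : Subgroup G))
    (ht : t ≠ 1) :
    ∃ O : Subgroup G, O ≤ centralizer ({t} : Set G) ∧ IsPGroup p O ∧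
      centralizer ({t} : Set G) ≤ normalizer (O : Set G) ∧
      (∀ x ∈ centralizer ({t} : Set G), PE p x → x ∈ O) ∧
      centralizer ({t} : Set G) ≤ O ⊔ Q := by
  haveI := h.fact
  set H := centralizer ({t} : Set G) with hHd
  have hH : H ≠ ⊤ := h.centralizer_ne_top ht
  have hQH : (Q : Subgroup G) ≤ H :=
    fun a ha => mem_centralizer_singleton_iff.2 (h.comm_sylow Q ha htQ)
  have hp1 : 2 ∣ p + 1 := by
    obtain ⟨k, hk⟩ := h.hp.odd_of_ne_two h.hp2
    omega
  have h2H : 2 ∣ Nat.card H :=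
    Dvd.dvd.trans (by rw [h.sylow_card]; exact hp1) (Subgroup.card_dvd_of_le hQH)
  have hfrob : HasNormalPComplement 2 H := by
    refine Fusion.hasNormalPComplement_of_frobenius fun R hR g hg hgo => ?_
    have hgp : PE p (g : G) := by
      refine ⟨_, Nat.eq_prime_pow_of_unique_prime_dvd (orderOf_pos _).ne' fun {r} hr hd => ?_⟩
      rcases h.sub H hH h2H r hr (hd.trans (orderOf_coe g ▸ orderOf_dvd_natCard g)) with e | e
      · subst e
        exact absurd (Nat.eq_one_of_dvd_coprimes hgo (orderOf_coe g ▸ hd) dvd_rfl) (by norm_num)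
      · exact e
    have hg' : (g : G) ∈ normalizer ((R.map H.subtype : Subgroup G) : Set G) := by
      rw [mem_normalizer_iff_map_conj_eq, Subgroup.map_map]
      rw [mem_normalizer_iff_map_conj_eq] at hg
      conv_rhs => rw [← hg, Subgroup.map_map]
      exact congrArg (Subgroup.map · R) (MonoidHom.ext fun y => by simp)
    have hRm : IsPGroup 2 (R.map H.subtype : Subgroup G) := hR.map _
    have hc : (g : G) ∈ centralizer ((R.map H.subtype : Subgroup G) : Set G) := by
      refine h.centralizes hRm hgp hg' ?_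
      by_cases hlt : Nat.card (R.map H.subtype : Subgroup G) < p + 1
      · exact Or.inl hlt
      · refine Or.inr ⟨t, ?_, ht, mem_centralizer_singleton_iff.1 g.2⟩
        obtain ⟨Q', hQ'⟩ := hRm.exists_le_sylow
        have heq : (R.map H.subtype : Subgroup G) = Q' :=
          eq_of_le_of_card_ge hQ' (by rw [h.sylow_card]; omega)
        rw [heq]
        have hQ'H : (Q' : Subgroup G) ≤ H := heq ▸ map_subtype_le R
        have hnorm : zpowers t ≤ normalizer ((Q' : Subgroup G) : Set G) := by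
          rw [zpowers_le, mem_normalizer_iff]
          intro a
          constructor
          · intro ha
            rwa [← (mem_centralizer_singleton_iff.1 (hQ'H ha)), mul_inv_cancel_right]
          · intro ha
            have h' := mem_centralizer_singleton_iff.1 (hQ'H ha)
            have : t * a * t⁻¹ = a := by
              calc t * a * t⁻¹ = t⁻¹ * (t * (t * a * t⁻¹)) := by group
                _ = t⁻¹ * ((t * a * t⁻¹) * t) := by rw [h']
                _ = a := by group
            rwa [this] at ha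
        have ht2 : IsPGroup 2 (zpowers t) := Q.2.to_le (zpowers_le.2 htQ)
        have hsup : IsPGroup 2 ((Q' : Subgroup G) ⊔ zpowers t : Subgroup G) :=
          Q'.2.to_sup_of_normal_left' ht2 hnorm
        exact (Q'.3 hsup le_sup_left).le ((le_sup_right : zpowers t ≤ _) (mem_zpowers t))
    rw [mem_centralizer_iff] at hc ⊢
    intro a ha
    exact Subtype.ext (hc _ ⟨a, ha, rfl⟩)
  obtain ⟨S, N, hN, hNS⟩ := hfrob
  have hNidx : N.index = Nat.card (S : Subgroup H) := hNS.symm.index_eq_card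
  have hNcard : Nat.card N = (S : Subgroup H).index := hNS.index_eq_card.symm
  have hNp : IsPGroup p N := by
    refine IsPGroup.of_card
      (Nat.eq_prime_pow_of_unique_prime_dvd (p := p) Nat.card_pos.ne' fun {r} hr hd => ?_)
    rcases h.sub H hH h2H r hr (hd.trans (Subgroup.card_subgroup_dvd_card N)) with e | e
    · subst e
      exact absurd (hNcard ▸ hd) S.not_dvd_index
    · exact e
  refine ⟨N.map H.subtype, map_subtype_le _, hNp.map _, ?_, ?_, ?_⟩
  · intro g hg
    rw [mem_normalizer_iff]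
    intro a
    constructor
    · rintro ⟨b, hb, rfl⟩
      exact ⟨⟨g, hg⟩ * b * ⟨g, hg⟩⁻¹, hN.conj_mem b hb _, rfl⟩
    · rintro ⟨b, hb, hb'⟩
      refine ⟨⟨g, hg⟩⁻¹ * b * ⟨g, hg⟩, ?_, ?_⟩
      · simpa using hN.conj_mem b hb (⟨g, hg⟩⁻¹)
      · change g⁻¹ * (b : G) * g = a
        change (b : G) = g * a * g⁻¹ at hb'
        rw [hb']
        group
  · intro x hx hxp
    refine ⟨⟨x, hx⟩, ?_, rfl⟩
    refine mem_of_pe (p := p) (K := N) (H := ⊤) ?_ ?_ (mem_top _) ?_
    · rw [normalizer_eq_top N]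
    · obtain ⟨k, hk⟩ := hxp
      exact ⟨k, by rw [Subgroup.orderOf_mk, hk]⟩
    · rw [relIndex_top_right, hNidx]
      obtain ⟨n, hn⟩ := IsPGroup.iff_card.mp S.2
      rw [hn]
      exact (((Nat.coprime_primes Nat.prime_two h.hp).2 (Ne.symm h.hp2))).pow_left n
  · have hS : (Q : Subgroup G).subgroupOf H ⊔ N = ⊤ := by
      refine eq_top_of_card_eq _ (le_antisymm (Subgroup.card_le_card_group _) ?_)
      have hQs : Nat.card ((Q : Subgroup G).subgroupOf H) = Nat.card (S : Subgroup H) :=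
        (Sylow.card_eq_multiplicity (Q.subtype hQH)).trans (Sylow.card_eq_multiplicity S).symm
      refine Nat.le_of_dvd Nat.card_pos ?_
      rw [← hNS.card_mul]
      refine Nat.Coprime.mul_dvd_of_dvd_of_dvd ?_ (Subgroup.card_dvd_of_le le_sup_right)
        (hQs ▸ Subgroup.card_dvd_of_le le_sup_left)
      rw [hNcard]
      exact S.card_coprime_index.symm
    have := congrArg (Subgroup.map H.subtype) hS
    rw [Subgroup.map_sup, ← MonoidHom.range_eq_map, range_subtype,
      map_subgroupOf_eq_of_le hQH, sup_comm] at this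
    exact this.ge

/-- Two commuting `p`-elements lie in a common Sylow subgroup. -/
theorem exists_sylow_pair (h : Cfg p G) {x y : G} (hx : PE p x) (hy : PE p y)
    (hxy : x * y = y * x) :
    ∃ P : Sylow p G, x ∈ (P : Subgroup G) ∧ y ∈ (P : Subgroup G) := by
  haveI := h.fact
  have hn : zpowers y ≤ normalizer ((zpowers x : Subgroup G) : Set G) :=
    (zpowers_le.2 (mem_centralizer_iff.2 fun a ha => by
      obtain ⟨i, rfl⟩ := mem_zpowers_iff.1 ha
      exact ((show Commute x y from hxy).zpow_left i).eq)).trans (centralizer_le_normalizer _)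
  obtain ⟨P, hP⟩ :=
    ((isPGroup_zpowers_of_pe hx).to_sup_of_normal_left' (isPGroup_zpowers_of_pe hy) hn).exists_le_sylow
  exact ⟨P, hP ((le_sup_left : zpowers x ≤ _) (mem_zpowers x)),
    hP ((le_sup_right : zpowers y ≤ _) (mem_zpowers y))⟩

/-- The Sylow `p`-subgroup above a `p`-subgroup normalized but not centralized by `Q` is unique. -/
theorem unique_sylow (h : Cfg p G) (Q : Sylow 2 G) {Z : Subgroup G} (hZ : IsPGroup p Z)
    (hQZ : (Q : Subgroup G) ≤ normalizer (Z : Set G))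
    (hne : ∃ z ∈ Z, ∃ a ∈ (Q : Subgroup G), z * a ≠ a * z) (P : Sylow p G)
    (hZP : Z ≤ P) :
    (Q : Subgroup G) ≤ normalizer ((P : Subgroup G) : Set G) ∧
      ∀ P' : Sylow p G, Z ≤ P' → P' = P := by
  haveI := h.fact
  obtain ⟨z, hz, a, ha, hza⟩ := hne
  have hPN : ∀ P' : Sylow p G, Z ≤ P' → (P' : Subgroup G) ≤ normalizer (Z : Set G) :=
    fun P' hP' b hb => centralizer_le_normalizer _
      (mem_centralizer_iff.2 fun c hc => h.comm_pe P' (hP' hc) hb)
  have hN : normalizer (Z : Set G) ≠ ⊤ := by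
    refine h.normalizer_ne_top (fun e => hza ?_) (fun e => h.not_isPGroup_top ?_)
    · rw [e, mem_bot] at hz
      simp [hz]
    · exact (e ▸ hZ).of_equiv Subgroup.topEquiv
  rcases h.split hN Q P hQZ (hPN P hZP) with hc | hc
  · exfalso
    have hzQ : z * a * z⁻¹ * a⁻¹ ∈ (Q : Subgroup G) :=
      mul_mem ((mem_normalizer_iff.1 (hc (le_normalizer hz)) a).1 ha) (inv_mem ha)
    have hzZ : z * a * z⁻¹ * a⁻¹ ∈ Z := by
      have := mul_mem hz ((mem_normalizer_iff.1 (hQZ ha) z⁻¹).1 (inv_mem hz))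
      simpa [mul_assoc] using this
    have hbot : (Q : Subgroup G) ⊓ Z = ⊥ :=
      disjoint_iff.1 (IsPGroup.disjoint_of_ne 2 p (Ne.symm h.hp2) _ _ Q.2 hZ)
    have h1 : z * a * z⁻¹ * a⁻¹ ∈ (Q : Subgroup G) ⊓ Z := ⟨hzQ, hzZ⟩
    rw [hbot, mem_bot, mul_inv_eq_one, mul_inv_eq_iff_eq_mul] at h1
    exact hza h1
  · refine ⟨hQZ.trans hc, fun P' hP' => ?_⟩
    have hsup : IsPGroup p ((P : Subgroup G) ⊔ P' : Subgroup G) :=
      P.2.to_sup_of_normal_left' P'.2 ((hPN P' hP').trans hc)
    exact Sylow.ext ((P'.3 hsup le_sup_right).symm.trans (P.3 hsup le_sup_left))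

/-- Two involutions generating a four-group with fixed points centralized by `Q`. -/
theorem fix_le (h : Cfg p G) (Q : Sylow 2 G) (P : Sylow p G)
    (hQP : (Q : Subgroup G) ≤ normalizer ((P : Subgroup G) : Set G)) {s₁ s₂ : G}
    (h1 : s₁ ∈ (Q : Subgroup G)) (h2 : s₂ ∈ (Q : Subgroup G))
    (hfix : ∀ s ∈ ({s₁, s₂, s₂ * s₁} : Set G), ∀ x ∈ (P : Subgroup G), x * s = s * x →
      x ∈ centralizer ((Q : Subgroup G) : Set G)) :
    (P : Subgroup G) ≤ centralizer ((Q : Subgroup G) : Set G) := by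
  haveI := h.fact
  have key : ∀ s ∈ (Q : Subgroup G), ∀ x ∈ (P : Subgroup G),
      x * (s * x * s⁻¹) ∈ (P : Subgroup G) ∧ (x * (s * x * s⁻¹)) * s = s * (x * (s * x * s⁻¹)) := by
    intro s hs x hx
    have hsx := (mem_normalizer_iff.1 (hQP hs) x).1 hx
    refine ⟨mul_mem hx hsx, ?_⟩
    have hss := h.invol Q s hs
    have hinv : s⁻¹ = s := inv_eq_of_mul_eq_one_right hss
    have hsx' : s * x * s ∈ (P : Subgroup G) := by rwa [hinv] at hsx
    calc x * (s * x * s⁻¹) * s = x * (s * x) := by group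
      _ = (x * (s * x * s)) * s := by simp [mul_assoc, hss]
      _ = ((s * x * s) * x) * s := by rw [h.comm_pe P hx hsx']
      _ = s * (x * (s * x * s⁻¹)) := by rw [hinv]; group
  intro x hx
  set a₁ := x * (s₁ * x * s₁⁻¹) with ha₁
  have hx1 : s₁ * x * s₁⁻¹ = x⁻¹ * a₁ := by rw [ha₁, inv_mul_cancel_left]
  obtain ⟨hP1, hc1⟩ := key s₁ h1 x hx
  obtain ⟨hP2, hc2⟩ := key s₂ h2 x hx
  obtain ⟨hP3, hc3⟩ := key (s₂ * s₁) (mul_mem h2 h1) x hx
  have hA1 := hfix s₁ (by simp) _ hP1 hc1
  have hA2 := hfix s₂ (by simp) _ hP2 hc2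
  have hA3 := hfix (s₂ * s₁) (by simp) _ hP3 hc3
  set a₂ := x * (s₂ * x * s₂⁻¹) with ha₂
  have hfixa : s₂ * a₁ * s₂⁻¹ = a₁ := by
    rw [mul_inv_eq_iff_eq_mul]
    exact (mem_centralizer_iff.1 hA1 s₂ h2)
  have h3 : x * (s₂ * s₁ * x * (s₂ * s₁)⁻¹) = x * x * a₂⁻¹ * a₁ := by
    calc x * (s₂ * s₁ * x * (s₂ * s₁)⁻¹) = x * (s₂ * (s₁ * x * s₁⁻¹) * s₂⁻¹) := by group
      _ = x * ((s₂ * x * s₂⁻¹)⁻¹ * (s₂ * a₁ * s₂⁻¹)) := by rw [hx1]; group
      _ = x * ((x⁻¹ * a₂)⁻¹ * a₁) := by rw [hfixa, ha₂, inv_mul_cancel_left]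
      _ = x * (a₂⁻¹ * x) * a₁ := by group
      _ = x * (x * a₂⁻¹) * a₁ := by rw [h.comm_pe P (inv_mem hP2) hx]
      _ = _ := by group
  have hxx : x * x ∈ centralizer ((Q : Subgroup G) : Set G) := by
    have e : x * x = (x * (s₂ * s₁ * x * (s₂ * s₁)⁻¹)) * a₁⁻¹ * a₂ := by rw [h3]; group
    rw [e]
    exact mul_mem (mul_mem hA3 (inv_mem hA1)) hA2
  obtain ⟨k, hk⟩ := pe_of_mem P.2 hx
  obtain ⟨m, hm⟩ := (h.hp.odd_of_ne_two h.hp2).pow (n := k)
  have hx' : (x * x) ^ (m + 1) = x := by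
    rw [← pow_two, ← pow_mul, show 2 * (m + 1) = orderOf x + 1 by omega, pow_succ,
      pow_orderOf_eq_one, one_mul]
  rw [← hx']
  exact pow_mem hxx _

end Cfg

end Cfsg.Agent.MixPQ
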