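import Cfsg.Agent.MixPQ.Count
import Cfsg.Agent.Char.Integral
import Mathlib.GroupTheory.SchurZassenhaus

/-!
Only two primes divide the order of a group in which `p` divides the order of every proper mixed
subgroup of order divisible by `q`, when `p` is large.
-/

set_option autoImplicit false

namespace Cfsg.Agent.MixPQ

open Subgroup Cfsg

universe u

variable {p q : ℕ}

theorem isSolvable_of_primes {G : Type u} [Group G] [Finite G] (hp : p.Prime) (hq : q.Prime)
    (hpq : p ≠ q) (h : ∀ r : ℕ, r.Prime → r ∣ Nat.card G → r = p ∨ r = q) : Group.IsSolvable G := by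
  refine Cfsg.Agent.Char.isSolvable_of_card_eq p q hp hq _ G rfl ?_
  obtain ⟨a, m, hm, he⟩ :=
    Nat.exists_eq_pow_mul_and_not_dvd (Nat.card_pos (α := G)).ne' p hp.one_lt.ne'
  have hm0 : m ≠ 0 := fun e => hm (e ▸ dvd_zero p)
  refine ⟨a, _, he.trans (congrArg (p ^ a * ·)
    (Nat.eq_prime_pow_of_unique_prime_dvd hm0 (p := q) (fun {r} hr hd => ?_)))⟩
  rcases h r hr (he ▸ hd.mul_left _) with e | e
  · exact absurd (e ▸ hd) hm
  · exact e

/-- A section of order prime to `p` over a normal `p`-subgroup is realised by a subgroup. -/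
theorem exists_lift {G : Type u} [Group G] [Finite G] (hp : p.Prime) {W : Subgroup G} [W.Normal]
    (hW : IsPGroup p W) (H : Subgroup (G ⧸ W)) (hH : ¬ p ∣ Nat.card H) :
    ∃ H0 : Subgroup G, Nat.card H0 = Nat.card H := by
  haveI := Fact.mk hp
  set K := H.comap (QuotientGroup.mk' W) with hK
  have hWK : W ≤ K := fun w hw => by
    rw [hK, mem_comap, QuotientGroup.mk'_apply, (QuotientGroup.eq_one_iff w).2 hw]
    exact one_mem _
  have hidx : (W.subgroupOf K).index = Nat.card H := by
    show W.relIndex K = _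
    have h1 := relIndex_comap (⊥ : Subgroup (G ⧸ W)) (QuotientGroup.mk' W) K
    rw [MonoidHom.comap_bot, QuotientGroup.ker_mk', hK,
      map_comap_eq_self_of_surjective (QuotientGroup.mk'_surjective W), relIndex_bot_left] at h1
    rw [hK]
    exact h1
  obtain ⟨n, hn⟩ := IsPGroup.iff_card.mp hW
  have hcop : Nat.Coprime (Nat.card (W.subgroupOf K)) (W.subgroupOf K).index := by
    rw [hidx, Nat.card_congr (subgroupOfEquivOfLe hWK).toEquiv, hn]
    exact Nat.Coprime.pow_left n ((Nat.Prime.coprime_iff_not_dvd hp).2 hH)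
  obtain ⟨C, hC⟩ := exists_right_complement'_of_coprime hcop
  refine ⟨C.map K.subtype, ?_⟩
  rw [Subgroup.card_map_of_injective K.subtype_injective, ← hidx, hC.symm.index_eq_card]

/-- The main theorem. -/
theorem primes_eq (hp : p.Prime) (hq : q.Prime) (hpq : p ≠ q) (hp2 : p ≠ 2) :
    ∀ (n : ℕ) (G : Type u) [Group G] [Finite G], Nat.card G = n → p ∣ Nat.card G →
      q ∣ Nat.card G → Mix p q G →
      (q ^ (Nat.card G).factorization q - 1 < p ∨
        (p = q ^ (Nat.card G).factorization q - 1 ∧ ∀ P : Sylow p G, IsMulCommutative P)) →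
      ∀ r : ℕ, r.Prime → r ∣ Nat.card G → r = p ∨ r = q := by
  intro n
  induction n using Nat.strong_induction_on with
  | _ n IH =>
  intro G _ _ hcard hpG hqG hmix hlarge r hr hrG
  subst hcard
  haveI := Fact.mk hp
  haveI := Fact.mk hq
  by_contra hne
  push Not at hne
  obtain ⟨hrp, hrq⟩ := hne
  have hfle : ∀ m : ℕ, m ∣ Nat.card G →
      q ^ m.factorization q ≤ q ^ (Nat.card G).factorization q := fun m hm =>
    Nat.pow_le_pow_right hq.pos
      ((Nat.factorization_le_iff_dvd (ne_zero_of_dvd_ne_zero Nat.card_pos.ne' hm)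
        Nat.card_pos.ne').2 hm q)
  -- proper subgroups
  have hsubgrp : ∀ H : Subgroup G, H ≠ ⊤ → q ∣ Nat.card H →
      ∀ l : ℕ, l.Prime → l ∣ Nat.card H → l = p ∨ l = q := by
    intro H hH hqH l hl hlH
    by_cases hHq : IsPGroup q H
    · obtain ⟨k, hk⟩ := IsPGroup.iff_card.mp hHq
      exact Or.inr ((Nat.prime_dvd_prime_iff_eq hl hq).1 (hl.dvd_of_dvd_pow (hk ▸ hlH)))
    have hlt : Nat.card H < Nat.card G := by
      rcases lt_or_ge (Nat.card H) (Nat.card G) with e | e
      · exact e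
      · exact absurd (eq_top_of_le_card H e) hH
    refine IH _ hlt H rfl (hmix H hH hHq hqH) hqH ?_ ?_ l hl hlH
    · intro K hK hKq hqK
      have hc : Nat.card (K.map H.subtype) = Nat.card K :=
        Subgroup.card_map_of_injective H.subtype_injective
      have := hmix (K.map H.subtype) (fun e => hH (top_le_iff.1 (e.ge.trans (map_subtype_le K))))
        (fun e => hKq (e.of_equiv (equivMapOfInjective K _ H.subtype_injective).symm)) (hc ▸ hqK)
      rwa [hc] at this
    · have hle := hfle _ (Subgroup.card_subgroup_dvd_card H)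
      rcases hlarge with hl' | ⟨hl', hab⟩
      · exact Or.inl (by omega)
      rcases lt_or_eq_of_le hle with hlt' | heq
      · have := Nat.one_le_pow ((Nat.card H).factorization q) q hq.pos
        exact Or.inl (by omega)
      · refine Or.inr ⟨by omega, fun P => ?_⟩
        obtain ⟨P', hP'⟩ := (P.2.map H.subtype).exists_le_sylow
        have := hab P'
        exact ⟨⟨fun a b => Subtype.ext (Subtype.ext (setLike_mul_comm
          (hP' (mem_map_of_mem _ a.2)) (hP' (mem_map_of_mem _ b.2))))⟩⟩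
  obtain ⟨x, hx⟩ := exists_prime_orderOf_dvd_card' (hp := ⟨hr⟩) r hrG
  -- no non-trivial normal `p`-subgroup
  have hA : ∀ W : Subgroup G, W.Normal → IsPGroup p W → W = ⊥ := by
    intro W hWn hW
    by_contra hW1
    obtain ⟨k, hk⟩ := IsPGroup.iff_card.mp hW
    have hfac : ∀ l : ℕ, l.Prime → l ≠ p → l ∣ Nat.card G → l ∣ Nat.card (G ⧸ W) := by
      intro l hl hlp hd
      rw [Subgroup.card_eq_card_quotient_mul_card_subgroup W, hk] at hd
      rcases hl.dvd_mul.1 hd with e | e
      · exact e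
      · exact absurd ((Nat.prime_dvd_prime_iff_eq hl hp).1 (hl.dvd_of_dvd_pow e)) hlp
    have hqQ := hfac q hq (Ne.symm hpq) hqG
    have hrQ := hfac r hr hrp hrG
    by_cases hpQ : p ∣ Nat.card (G ⧸ W)
    · have hlt : Nat.card (G ⧸ W) < Nat.card G := by
        rw [Subgroup.card_eq_card_quotient_mul_card_subgroup W]
        exact lt_mul_of_one_lt_right Nat.card_pos (W.one_lt_card_iff_ne_bot.2 hW1)
      refine absurd (IH _ hlt (G ⧸ W) rfl hpQ hqQ ?_ ?_ r hr hrQ) (by simp [hrp, hrq])
      · intro H _ hHq hqH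
        by_contra hpH
        obtain ⟨H0, hH0⟩ := exists_lift hp hW H hpH
        obtain ⟨l, hl, hlH, hlq⟩ : ∃ l : ℕ, l.Prime ∧ l ∣ Nat.card H ∧ l ≠ q := by
          by_contra! hh
          exact hHq (IsPGroup.of_card
            (Nat.eq_prime_pow_of_unique_prime_dvd Nat.card_pos.ne' fun {l} hl hd => hh l hl hd))
        exact hmix.false hq hpG H0 (hH0 ▸ hpH) (hH0 ▸ hqH) hl hlq (hH0 ▸ hlH)
      · have hf : (Nat.card (G ⧸ W)).factorization q = (Nat.card G).factorization q := by
          conv_rhs => rw [Subgroup.card_eq_card_quotient_mul_card_subgroup W, hk]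
          rw [Nat.factorization_mul Nat.card_pos.ne' (pow_ne_zero _ hp.pos.ne'), Finsupp.add_apply,
            Nat.factorization_pow, Finsupp.smul_apply, hp.factorization, Finsupp.single_apply,
            if_neg hpq, smul_zero, add_zero]
        rw [hf]
        refine hlarge.imp_right fun ⟨e, hab⟩ => ⟨e, fun P => ?_⟩
        obtain ⟨P₀⟩ := (inferInstance : Nonempty (Sylow p G))
        obtain ⟨g, hg⟩ := MulAction.exists_smul_eq (G ⧸ W)
          (P₀.mapSurjective (QuotientGroup.mk'_surjective W)) P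
        have := hab P₀
        refine ⟨⟨fun a b => Subtype.ext ?_⟩⟩
        have hmem : ∀ c : G ⧸ W, c ∈ (P : Subgroup (G ⧸ W)) →
            ∃ d ∈ (P₀ : Subgroup G), g * QuotientGroup.mk' W d * g⁻¹ = c := by
          intro c hc
          rw [← hg, Sylow.coe_subgroup_smul, Sylow.coe_mapSurjective] at hc
          obtain ⟨c', ⟨d, hd, hd'⟩, hc'⟩ := hc
          exact ⟨d, hd, by rw [hd']; exact hc'⟩
        obtain ⟨d₁, hd₁, e₁⟩ := hmem _ a.2
        obtain ⟨d₂, hd₂, e₂⟩ := hmem _ b.2
        show (a : G ⧸ W) * b = b * a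
        rw [← e₁, ← e₂, conj_mul, conj_mul, ← map_mul, ← map_mul,
          (setLike_mul_comm hd₁ hd₂ : d₁ * d₂ = d₂ * d₁)]
    · obtain ⟨H0, hH0⟩ := exists_lift hp hW (⊤ : Subgroup (G ⧸ W)) (by rwa [Subgroup.card_top])
      rw [Subgroup.card_top] at hH0
      exact hmix.false hq hpG H0 (hH0 ▸ hpQ) (hH0 ▸ hqQ) hr hrq (hH0 ▸ hrQ)
  -- no non-trivial normal `q`-subgroup
  have hB : ∀ W : Subgroup G, W.Normal → IsPGroup q W → W = ⊥ := by
    intro W hWn hW
    by_contra hW1
    obtain ⟨k, hk⟩ := IsPGroup.iff_card.mp hW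
    refine hmix.false_of_normalizes hp hq hpG (R := W) (S := zpowers x)
      (by rw [normalizer_eq_top W]; exact le_top) ?_ ?_
      (Or.inl ?_) hr hrq (Or.inr (by rw [Nat.card_zpowers, hx]))
    · rw [hk]
      exact fun hd => hpq ((Nat.prime_dvd_prime_iff_eq hp hq).1 (hp.dvd_of_dvd_pow hd))
    · rw [Nat.card_zpowers, hx]
      exact fun hd => hrp ((Nat.prime_dvd_prime_iff_eq hp hr).1 hd).symm
    · rw [hk]
      refine dvd_pow_self q fun hk0 => hW1 (eq_bot_of_card_eq _ ?_)
      rw [hk, hk0, pow_zero]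
  -- simplicity
  have hsimple : IsSimpleGroup G := by
    haveI : Nontrivial G := Finite.one_lt_card_iff_nontrivial.1
      (lt_of_lt_of_le hp.one_lt (Nat.le_of_dvd Nat.card_pos hpG))
    refine ⟨fun N hNn => ?_⟩
    by_contra! hN
    obtain ⟨hN1, hNtop⟩ := hN
    by_cases hqN : q ∣ Nat.card N
    · haveI : Group.IsSolvable N := isSolvable_of_primes hp hq hpq fun l hl hd => hsubgrp N hNtop hqN l hl hd
      haveI : Nontrivial N := (nontrivial_iff_ne_bot N).2 hN1
      refine Core.fittingSubgroup_ne_bot (G := N) ?_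
      rw [Core.fittingSubgroup_eq_iSup_pCore, iSup_eq_bot]
      intro l
      haveI := Fact.mk l.2
      refine (map_eq_bot_iff_of_injective _ N.subtype_injective).1 ?_
      obtain ⟨k, hk⟩ := IsPGroup.iff_card.mp (Core.pCore_isPGroup (p := (l : ℕ)) (G := N))
      by_cases hk0 : k = 0
      · rw [hk0, pow_zero] at hk
        rw [eq_bot_of_card_eq _ hk, Subgroup.map_bot]
      · have hlN : (l : ℕ) ∣ Nat.card N :=
          ((dvd_pow_self _ hk0).trans (dvd_of_eq hk.symm)).trans (Subgroup.card_subgroup_dvd_card _)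
        rw [Core.map_pCore_normal]
        rcases hsubgrp N hNtop hqN l l.2 hlN with e | e
        · rw [e, hA _ inferInstance (Core.pCore_isPGroup (p := p)), bot_inf_eq]
        · rw [e, hB _ inferInstance (Core.pCore_isPGroup (p := q)), bot_inf_eq]
    · obtain ⟨l, hl, hlN, hlp⟩ : ∃ l : ℕ, l.Prime ∧ l ∣ Nat.card N ∧ l ≠ p := by
        by_contra! hh
        exact hN1 (hA N hNn (IsPGroup.of_card
          (Nat.eq_prime_pow_of_unique_prime_dvd Nat.card_pos.ne' fun {l} hl hd => hh l hl hd)))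
      haveI := Fact.mk hl
      obtain ⟨R⟩ := (inferInstance : Nonempty (Sylow l N))
      set R' := (R : Subgroup N).map N.subtype with hR'
      have hsup := Sylow.normalizer_sup_eq_top R
      set NR := normalizer (R' : Set G) with hNR
      have hqNR : q ∣ Nat.card NR := by
        have h1 : Nat.card (N ⊔ NR : Subgroup G) ∣ Nat.card N * Nat.card NR :=
          Core.card_sup_dvd_of_le_normalizer (by rw [normalizer_eq_top N]; exact le_top)
        rw [show N ⊔ NR = ⊤ by rw [sup_comm]; exact hsup, Subgroup.card_top] at h1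
        exact (hq.dvd_mul.1 (hqG.trans h1)).resolve_left hqN
      obtain ⟨y, hy⟩ := exists_prime_orderOf_dvd_card' q hqNR
      have hyo : orderOf (y : G) = q := by rw [orderOf_coe, hy]
      obtain ⟨k, hk⟩ := IsPGroup.iff_card.mp R.2
      have hlR : l ∣ Nat.card R' := by
        rw [hR', Subgroup.card_map_of_injective N.subtype_injective]
        exact R.dvd_card_of_dvd_card hlN
      refine hmix.false_of_normalizes hp hq hpG (R := R') (S := zpowers (y : G))
        (zpowers_le.2 y.2) ?_ ?_ (Or.inr (by rw [Nat.card_zpowers, hyo])) hl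
        (fun e => hqN (e ▸ hlN)) (Or.inl hlR)
      · rw [hR', Subgroup.card_map_of_injective N.subtype_injective, hk]
        exact fun hd => hlp ((Nat.prime_dvd_prime_iff_eq hp hl).1 (hp.dvd_of_dvd_pow hd)).symm
      · rw [Nat.card_zpowers, hyo]
        exact fun hd => hpq ((Nat.prime_dvd_prime_iff_eq hp hq).1 hd)
  -- a non-centralizing `p`-element on a `q`-subgroup
  obtain ⟨R, g, hR, hgp, hgN, hgC⟩ : ∃ (R : Subgroup G) (g : G), IsPGroup q R ∧ PE p g ∧
      g ∈ normalizer (R : Set G) ∧ g ∉ centralizer (R : Set G) := by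
    by_contra! hh
    have hfrob : HasNormalPComplement q G := by
      refine Fusion.hasNormalPComplement_of_frobenius fun R hR g hg hgo => ?_
      rcases eq_or_ne R ⊥ with rfl | hR1
      · refine mem_centralizer_iff.2 fun c hc => ?_
        rw [SetLike.mem_coe, mem_bot] at hc
        simp [hc]
      refine hh R g hR ⟨_, Nat.eq_prime_pow_of_unique_prime_dvd (orderOf_pos _).ne' fun {l} hl hd => ?_⟩ hg
      have hlq : l ≠ q := fun e =>
        hq.one_lt.ne' (Nat.eq_one_of_dvd_coprimes hgo (e ▸ hd) dvd_rfl)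
      by_contra hlp
      obtain ⟨k, hk⟩ := IsPGroup.iff_card.mp hR
      have hgl : orderOf (g ^ (orderOf g / l)) = l := orderOf_pow_orderOf_div (orderOf_pos _).ne' hd
      refine hmix.false_of_normalizes hp hq hpG (R := R) (S := zpowers (g ^ (orderOf g / l)))
        (zpowers_le.2 (pow_mem hg _)) ?_ ?_ (Or.inl ?_) hl hlq
        (Or.inr (by rw [Nat.card_zpowers, hgl]))
      · rw [hk]
        exact fun e => hpq ((Nat.prime_dvd_prime_iff_eq hp hq).1 (hp.dvd_of_dvd_pow e))
      · rw [Nat.card_zpowers, hgl]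
        exact fun e => hlp ((Nat.prime_dvd_prime_iff_eq hp hl).1 e).symm
      · rw [hk]
        refine dvd_pow_self q fun hk0 => hR1 (eq_bot_of_card_eq _ ?_)
        rw [hk, hk0, pow_zero]
    obtain ⟨S, N, hN, hNS⟩ := hfrob
    haveI := hsimple
    rcases hN.eq_bot_or_eq_top with e | e
    · obtain ⟨k, hk⟩ := IsPGroup.iff_card.mp S.2
      have h1 : Nat.card G = q ^ k := by
        rw [← hNS.card_mul_card, e, Subgroup.card_bot, one_mul, hk]
      exact hpq ((Nat.prime_dvd_prime_iff_eq hp hq).1 (hp.dvd_of_dvd_pow (h1 ▸ hpG)))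
    · have h1 := hNS.index_eq_card
      have h2 : (S : Subgroup G) ≠ ⊥ := S.ne_bot_of_dvd_card hqG
      exact h2 (eq_bot_of_card_eq _ (by rw [← hNS.symm.index_eq_card, e, index_top]))
  rcases orbit_facts hp hq hpq hR hgN hgp with hc | ⟨hle, htr⟩
  · exact hgC hc
  obtain ⟨Q₀, hQ₀⟩ := hR.exists_le_sylow
  have hRQ := Nat.le_of_dvd Nat.card_pos (Subgroup.card_dvd_of_le hQ₀)
  rw [Sylow.card_eq_multiplicity Q₀] at hRQ
  obtain ⟨hpeq, hab⟩ : p = q ^ (Nat.card G).factorization q - 1 ∧ ∀ P : Sylow p G, IsMulCommutative P := by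
    refine hlarge.resolve_left fun hlt => ?_
    omega
  have hq1 := Nat.one_le_pow ((Nat.card G).factorization q) q hq.pos
  have hRcard : Nat.card R = p + 1 := by omega
  have hRQ' : R = Q₀ := eq_of_le_of_card_ge hQ₀ (by rw [Sylow.card_eq_multiplicity]; omega)
  have hq2 : q = 2 := by
    have hne : (Nat.card G).factorization q ≠ 0 := fun e => by
      rw [e, pow_zero] at hpeq
      have := hp.pos; omega
    have h2 : 2 ∣ q ^ (Nat.card G).factorization q := by
      obtain ⟨k, hk⟩ := hp.odd_of_ne_two hp2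
      refine ⟨k + 1, ?_⟩
      omega
    exact ((Nat.prime_dvd_prime_iff_eq Nat.prime_two hq).1 (Nat.prime_two.dvd_of_dvd_pow h2)).symm
  subst hq2
  have htrans : ∀ a ∈ R, ∀ b ∈ R, a ≠ 1 → b ≠ 1 → ∃ y : G, PE p y ∧
      y ∈ normalizer (R : Set G) ∧ y * a * y⁻¹ = b := by
    intro a ha b hb ha1 hb1
    obtain ⟨k, hk⟩ := htr hRcard a ha b hb ha1 hb1
    exact ⟨g ^ k, pe_of_mem (isPGroup_zpowers_of_pe hgp) (zpow_mem (mem_zpowers g) k),
      zpow_mem hgN k, hk⟩
  have hinvol : ∀ a ∈ R, a * a = 1 := by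
    intro a ha
    rcases eq_or_ne a 1 with rfl | ha1
    · rw [one_mul]
    obtain ⟨c, hc⟩ := exists_prime_orderOf_dvd_card' (G := R) 2 (by
      rw [hRcard]
      obtain ⟨k, hk⟩ := hp.odd_of_ne_two hp2
      omega)
    have hco : orderOf (c : G) = 2 := by rw [orderOf_coe, hc]
    have hc1 : (c : G) ≠ 1 := fun e => by simp [e] at hco
    obtain ⟨y, -, -, hy⟩ := htrans c c.2 a ha hc1 ha1
    rw [← hy, conj_mul, show (c : G) * c = 1 by rw [← pow_two, ← hco, pow_orderOf_eq_one],
      mul_one, mul_inv_cancel]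
  refine Cfg.contradiction (G := G) (p := p)
    { hp := hp, hp2 := hp2, simple := hsimple, mix := hmix, hpG := hpG, hab := hab
      sylow_card := fun Q => by rw [Sylow.card_eq_multiplicity Q]; omega
      sub := fun H hH h2 l hl hd => (hsubgrp H hH h2 l hl hd).symm
      trans := ?_
      invol := ?_ }
  · intro Q a ha b hb ha1 hb1
    obtain ⟨c, rfl⟩ := MulAction.exists_smul_eq G Q₀ Q
    rw [Sylow.coe_subgroup_smul] at ha hb
    obtain ⟨a', ha', rfl⟩ := ha
    obtain ⟨b', hb', rfl⟩ := hb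
    rw [← hRQ'] at ha' hb'
    obtain ⟨y, hy, hyN, hyab⟩ := htrans a' ha' b' hb' (fun e => ha1 (by simp [e]))
      (fun e => hb1 (by simp [e]))
    refine ⟨c * y * c⁻¹, pe_conj hy c, ?_, ?_⟩
    · rw [mem_normalizer_iff]
      intro w
      rw [Sylow.coe_subgroup_smul, ← hRQ']
      constructor
      · rintro ⟨w', hw', rfl⟩
        refine ⟨y * w' * y⁻¹, (mem_normalizer_iff.1 hyN w').1 hw', ?_⟩
        show c * (y * w' * y⁻¹) * c⁻¹ = c * y * c⁻¹ * (c * w' * c⁻¹) * (c * y * c⁻¹)⁻¹
        group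
      · rintro ⟨w', hw', hw''⟩
        refine ⟨y⁻¹ * w' * y, (mem_normalizer_iff.1 hyN _).2 ?_, ?_⟩
        · rw [show y * (y⁻¹ * w' * y) * y⁻¹ = w' by group]
          exact hw'
        · change c * w' * c⁻¹ = c * y * c⁻¹ * w * (c * y * c⁻¹)⁻¹ at hw''
          show c * (y⁻¹ * w' * y) * c⁻¹ = w
          rw [show c * (y⁻¹ * w' * y) * c⁻¹ = (c * y * c⁻¹)⁻¹ * (c * w' * c⁻¹) * (c * y * c⁻¹) by group,
            hw'']
          group
    · show c * y * c⁻¹ * (c * a' * c⁻¹) * (c * y * c⁻¹)⁻¹ = c * b' * c⁻¹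
      rw [← hyab]
      group
  · intro Q a ha
    obtain ⟨c, rfl⟩ := MulAction.exists_smul_eq G Q₀ Q
    rw [Sylow.coe_subgroup_smul] at ha
    obtain ⟨a', ha', rfl⟩ := ha
    rw [← hRQ'] at ha'
    show c * a' * c⁻¹ * (c * a' * c⁻¹) = 1
    rw [conj_mul, hinvol a' ha', mul_one, mul_inv_cancel]

end Cfsg.Agent.MixPQ
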